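import Cfsg.Agent.Lib.Coprime.Action
import Cfsg.Agent.Lib.Coprime.Abelian
import Cfsg.Agent.Lib.Solvable.Basic

/-!
The subgroups `[h, P]` of a group of automorphisms `P = ⟨x⟩` of prime order acting coprimely, and the
subgroup generated by their fixed points.
-/

set_option autoImplicit false

namespace CfsgLib.Coprime.CommutatorFixed

open Subgroup
open scoped commutatorElement

universe u

variable {G : Type u} [Group G]

/-- `[h, P]`. -/
def cm (x h : G) : Subgroup G := closure (Set.range fun i : ℕ => ⁅h⁻¹, x ^ i⁆)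

/-- The subgroup generated by the fixed points of the `[h, P]`. -/
def fx (H : Subgroup G) (x : G) : Subgroup G :=
  ⨆ h ∈ H, cm x h ⊓ centralizer (zpowers x : Set G)

theorem mem_cent {x c : G} : c ∈ centralizer (zpowers x : Set G) ↔ Commute x c := by
  refine ⟨fun h => mem_centralizer_iff.1 h x (mem_zpowers x), fun h => mem_centralizer_iff.2 ?_⟩
  rintro y ⟨i, rfl⟩
  exact h.zpow_left i

theorem zpowers_le_normalizer {x : G} {R : Subgroup G} (h : x ∈ normalizer (R : Set G)) :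
    zpowers x ≤ normalizer (R : Set G) := zpowers_le.2 h

theorem comm_mul (a b c : G) : ⁅a, b * c⁆ = ⁅a, b⁆ * (b * ⁅a, c⁆ * b⁻¹) := by
  simp only [commutatorElement_def]; group

theorem mul_comm' (a b c : G) : ⁅a * b, c⁆ = a * ⁅b, c⁆ * a⁻¹ * ⁅a, c⁆ := by
  simp only [commutatorElement_def]; group

theorem cm_gen (x h : G) (i : ℕ) : ⁅h⁻¹, x ^ i⁆ ∈ cm x h := subset_closure ⟨i, rfl⟩

theorem cm_gen_one (x h : G) : ⁅h⁻¹, x⁆ ∈ cm x h := by simpa using cm_gen x h 1

theorem cm_le {x h : G} {K : Subgroup G} (hh : h ∈ K) (hx : x ∈ normalizer (K : Set G)) :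
    cm x h ≤ K := by
  refine (closure_le _).2 ?_
  rintro _ ⟨i, rfl⟩
  show ⁅h⁻¹, x ^ i⁆ ∈ K
  rw [commutatorElement_def, inv_inv,
    show h⁻¹ * x ^ i * h * (x ^ i)⁻¹ = h⁻¹ * (x ^ i * h * (x ^ i)⁻¹) by group]
  exact mul_mem (inv_mem hh) ((mem_normalizer_iff.1 (pow_mem hx i) h).1 hh)

theorem cm_le_commutator {x h : G} {K : Subgroup G} (hh : h ∈ K) : cm x h ≤ ⁅K, zpowers x⁆ := by
  refine (closure_le _).2 ?_
  rintro _ ⟨i, rfl⟩
  exact commutator_mem_commutator (inv_mem hh) (pow_mem (mem_zpowers x) i)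

theorem mem_normalizer_cm [Finite G] (x h : G) : x ∈ normalizer (cm x h : Set G) := by
  refine Coprime.mem_normalizer_of_conj_map_le (conj_map_le_iff.1 ?_)
  rw [cm, MonoidHom.map_closure, closure_le]
  rintro _ ⟨_, ⟨i, rfl⟩, rfl⟩
  show x * ⁅h⁻¹, x ^ i⁆ * x⁻¹ ∈ cm x h
  have h1 := mul_mem (inv_mem (cm_gen x h 1)) (cm_gen x h (i + 1))
  rwa [pow_one, pow_succ', comm_mul, inv_mul_cancel_left] at h1

theorem conj_cm (x h c : G) (hc : Commute x c) :
    (cm x h).map (MulAut.conj c).toMonoidHom ≤ cm x (c * h * c⁻¹) := by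
  rw [cm, MonoidHom.map_closure, closure_le]
  rintro _ ⟨_, ⟨i, rfl⟩, rfl⟩
  show c * ⁅h⁻¹, x ^ i⁆ * c⁻¹ ∈ cm x (c * h * c⁻¹)
  have e : c * x ^ i * c⁻¹ = x ^ i := by rw [← (hc.pow_left i).eq, mul_inv_cancel_right]
  have := cm_gen x (c * h * c⁻¹) i
  rwa [show ⁅(c * h * c⁻¹)⁻¹, x ^ i⁆ = c * ⁅h⁻¹, x ^ i⁆ * c⁻¹ by
    conv_lhs => rw [← e]
    simp only [commutatorElement_def]; group] at this

theorem cm_inf_le_fx {H : Subgroup G} {x h : G} (hh : h ∈ H) :
    cm x h ⊓ centralizer (zpowers x : Set G) ≤ fx H x :=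
  le_iSup₂ (f := fun a (_ : a ∈ H) => cm x a ⊓ centralizer (zpowers x : Set G)) h hh

theorem fx_mono {H K : Subgroup G} (h : H ≤ K) (x : G) : fx H x ≤ fx K x :=
  iSup₂_le fun _ ha => cm_inf_le_fx (h ha)

theorem map_fx_le {G' : Type u} [Group G'] (f : G' →* G) (H : Subgroup G') (x : G') :
    (fx H x).map f ≤ fx (H.map f) (f x) := by
  rw [fx, Subgroup.map_iSup]
  refine iSup_le fun h => ?_
  rw [Subgroup.map_iSup]
  refine iSup_le fun hh => le_trans ?_ (cm_inf_le_fx (mem_map_of_mem f hh))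
  refine le_inf ((map_mono inf_le_left).trans ?_) ?_
  · rw [cm, MonoidHom.map_closure, closure_le]
    rintro _ ⟨_, ⟨i, rfl⟩, rfl⟩
    show f ⁅h⁻¹, x ^ i⁆ ∈ cm (f x) (f h)
    rw [map_commutatorElement, map_inv, map_pow]
    exact cm_gen (f x) (f h) i
  · rintro _ ⟨y, hy, rfl⟩
    exact mem_cent.2 ((mem_cent.1 (mem_inf.1 hy).2).map f)

/-- The hypotheses after the two inductive reductions. -/
structure Hyp (p : ℕ) (H : Subgroup G) (x : G) : Prop where
  normal : H.Normal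
  top : H ⊔ zpowers x = ⊤
  odd : Odd p
  prime : p.Prime
  pow : x ^ p = 1
  cop : (Nat.card H).Coprime p
  sol : Group.IsSolvable H
  full : ⁅H, zpowers x⁆ = H
  sub : ∀ M ≤ H, M ≠ H → x ∈ normalizer (M : Set G) →
    M ⊓ centralizer (zpowers x : Set G) ⊓ ⁅M, zpowers x⁆ ≤ fx H x
  quo : ∀ W : Subgroup G, W.Normal → W ≠ ⊥ → W ≤ H →
    ∀ c ∈ H ⊓ centralizer (zpowers x : Set G),
      ∃ d ∈ fx H x, ∃ w ∈ W ⊓ centralizer (zpowers x : Set G), d * w = c

variable {p : ℕ} {H : Subgroup G} {x : G}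

theorem Hyp.x_mem (hy : Hyp p H x) : x ∈ normalizer (H : Set G) := by
  haveI := hy.normal
  rw [normalizer_eq_top]; exact mem_top x

theorem Hyp.fx_le (hy : Hyp p H x) : fx H x ≤ H ⊓ centralizer (zpowers x : Set G) :=
  iSup₂_le fun h hh => inf_le_inf_right _ (cm_le hh hy.x_mem)

theorem Hyp.coprime [Finite G] (hy : Hyp p H x) {K : Subgroup G} (hK : K ≤ H) :
    (Nat.card (zpowers x)).Coprime (Nat.card K) := by
  refine (Nat.Coprime.coprime_dvd_left ?_ (hy.cop.coprime_dvd_left (card_dvd_of_le hK)).symm)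
  rw [Nat.card_zpowers]
  exact orderOf_dvd_of_pow_eq_one hy.pow

theorem Hyp.normal_of [Finite G] (hy : Hyp p H x) {R : Subgroup G}
    (h1 : ∀ h ∈ H, ∀ r ∈ R, h * r * h⁻¹ ∈ R) (h2 : ∀ r ∈ R, x * r * x⁻¹ ∈ R) : R.Normal := by
  rw [← normalizer_eq_top_iff, eq_top_iff, ← hy.top]
  exact sup_le (fun h hh => Coprime.mem_normalizer_of_conj_map_le (h1 h hh))
    (zpowers_le.2 (Coprime.mem_normalizer_of_conj_map_le h2))

theorem Hyp.conj_fx [Finite G] (hy : Hyp p H x) {c : G}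
    (hc : c ∈ H ⊓ centralizer (zpowers x : Set G)) :
    c ∈ normalizer (fx H x : Set G) := by
  refine Coprime.mem_normalizer_of_conj_map_le (conj_map_le_iff.1 ?_)
  rw [fx, Subgroup.map_iSup]
  refine iSup_le fun h => ?_
  rw [Subgroup.map_iSup]
  refine iSup_le fun hh => le_trans ?_
    (cm_inf_le_fx (mul_mem (mul_mem (mem_inf.1 hc).1 hh) (inv_mem (mem_inf.1 hc).1)))
  refine le_inf ((map_mono inf_le_left).trans (conj_cm x h c (mem_cent.1 (mem_inf.1 hc).2))) ?_
  rintro _ ⟨y, hy', rfl⟩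
  exact mul_mem (mul_mem (mem_inf.1 hc).2 (mem_inf.1 hy').2) (inv_mem (mem_inf.1 hc).2)

/-- Coprimality: `x` is a power of `x²`. -/
theorem Hyp.eq_sq_pow (hy : Hyp p H x) : x = (x ^ 2) ^ ((p + 1) / 2) := by
  obtain ⟨m, hm⟩ := hy.odd
  rw [← pow_mul, show 2 * ((p + 1) / 2) = p + 1 by omega, pow_succ, hy.pow, one_mul]

theorem Hyp.solvable (hy : Hyp p H x) : Group.IsSolvable G := by
  haveI := hy.normal
  haveI := hy.sol
  haveI := Coprime.isSolvable_zpowers x
  haveI : Group.IsSolvable (G ⧸ H) := Group.isSolvable_of_surjective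
    (f := (QuotientGroup.mk' H).comp (zpowers x).subtype) (by
      intro y
      obtain ⟨g, rfl⟩ := QuotientGroup.mk'_surjective H y
      obtain ⟨a, ha, b, hb, rfl⟩ := mem_sup_of_normal_left.1 (hy.top ▸ mem_top g)
      refine ⟨⟨b, hb⟩, ?_⟩
      show (QuotientGroup.mk b : G ⧸ H) = QuotientGroup.mk (a * b)
      rw [QuotientGroup.mk_mul, (QuotientGroup.eq_one_iff a).2 ha, one_mul])
  exact Group.isSolvable_of_ker_le_range H.subtype (QuotientGroup.mk' H) (by
    rw [QuotientGroup.ker_mk', range_subtype])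

/-- A coprime abelian group equal to its commutator has no fixed point. -/
theorem Hyp.inf_cent_eq_bot [Finite G] (hy : Hyp p H x) {R : Subgroup G} (hR : R ≤ H)
    (hc : ∀ a ∈ R, ∀ b ∈ R, a * b = b * a) (hx : x ∈ normalizer (R : Set G)) :
    R ⊓ centralizer (zpowers x : Set G) ⊓ ⁅R, zpowers x⁆ = ⊥ := by
  haveI : IsMulCommutative R := CfsgLib.Solvable.Basic.isMulCommutative_subgroup_iff.2 hc
  exact Coprime.centralizer_inf_commutator_eq_bot (zpowers_le.2 hx) (hy.coprime hR)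

/-- A normal subgroup fixed by `x` is central. -/
theorem Hyp.le_center [Finite G] (hy : Hyp p H x) {R : Subgroup G} [R.Normal]
    (hR : R ≤ centralizer (zpowers x : Set G)) : R ≤ center G := by
  have h1 : ⁅R, zpowers x⁆ = ⊥ := commutator_eq_bot_iff_le_centralizer.2 hR
  have h2 : ⁅⁅R, H⁆, zpowers x⁆ = ⊥ :=
    eq_bot_iff.2 ((commutator_mono (commutator_le_left R H) le_rfl).trans h1.le)
  have h3 : ⁅⁅zpowers x, R⁆, H⁆ = ⊥ := by
    rw [commutator_comm (zpowers x), h1, commutator_bot_left]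
  have h4 := commutator_commutator_eq_bot_of_rotate h3 h2
  rw [hy.full] at h4
  have h5 : H ⊔ zpowers x ≤ centralizer (R : Set G) :=
    sup_le (commutator_eq_bot_iff_le_centralizer.1 h4) (le_centralizer_iff.1 hR)
  rw [hy.top] at h5
  exact fun r hr => Subgroup.mem_center_iff.2 fun g => ((mem_centralizer_iff.1 (h5 (mem_top g))) r hr).symm

end CfsgLib.Coprime.CommutatorFixed
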