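import Cfsg.Agent.Lib.Coprime.CommutatorFixed.NonCentral
import Cfsg.Agent.Lib.Solvable.Cores
import Cfsg.Agent.Lib.PGroup.Frattini

/-!
The case where every minimal normal subgroup carrying missing fixed points is central.
-/

set_option autoImplicit false

namespace CfsgLib.Coprime.CommutatorFixed

open Subgroup
open scoped commutatorElement

universe u

variable {G : Type u} [Group G] [Finite G] {p : ℕ} {H : Subgroup G} {x : G}

/-- Every subgroup of a central subgroup is normal. -/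
theorem normal_of_le_center {R : Subgroup G} (h : R ≤ center G) : R.Normal :=
  ⟨fun r hr g => by rw [Subgroup.mem_center_iff.1 (h hr) g, mul_inv_cancel_right]; exact hr⟩

/-- `[h, P] = H` when the conjugates of `h` generate a nilpotent `H`. -/
theorem cm_eq_of_gen (hy : Hyp p H x) {q : ℕ} [Fact q.Prime] (hH : IsPGroup q H) {h : G}
    (hh : h ∈ H)
    (hgen : closure (Set.range fun i : ℕ => x ^ i * h * (x ^ i)⁻¹) ⊔
      (frattini H).map H.subtype = H) : cm x h = H := by
  haveI := hy.normal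
  set Φ := (frattini H).map H.subtype with hΦ
  set J := cm x h with hJ
  have hJH : J ≤ H := cm_le hh hy.x_mem
  set Jb := J ⊔ Φ with hJb
  have hJbH : Jb ≤ H := sup_le hJH (map_subtype_le _)
  haveI : Jb.Normal := hy.normal_of (fun g hg r hr => by
      rw [show g * r * g⁻¹ = ⁅g, r⁆ * r by simp only [commutatorElement_def]; group]
      refine mul_mem ((le_sup_right : Φ ≤ Jb) ⟨⁅(⟨g, hg⟩ : H), ⟨r, hJbH hr⟩⁆, ?_, rfl⟩) hr
      exact PGroup.Frattini.commutatorElement_mem_frattini hH _ _)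
    (fun r hr => by
      have hx : x ∈ normalizer (Jb : Set G) := by
        refine Coprime.mem_normalizer_of_conj_map_le (Coprime.conj_map_le_iff.1 ?_)
        rw [Subgroup.map_sup, Coprime.conj_map_eq_self_of_mem_normalizer (mem_normalizer_cm x h),
          Coprime.conj_map_eq_self_of_mem_normalizer (show x ∈ normalizer (Φ : Set G) by
            rw [normalizer_eq_top]; exact mem_top x)]
      exact (mem_normalizer_iff.1 hx r).1 hr)
  set f := QuotientGroup.mk' Jb with hf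
  have hcom : ∀ i : ℕ, f (x ^ i) * f h = f h * f (x ^ i) := by
    intro i
    have h1 : ⁅f h⁻¹, f (x ^ i)⁆ = 1 := by
      rw [← map_commutatorElement, hf, QuotientGroup.mk'_apply, QuotientGroup.eq_one_iff]
      exact (le_sup_left : J ≤ Jb) (cm_gen x h i)
    rw [map_inv, commutatorElement_eq_one_iff_commute, Commute.inv_left_iff] at h1
    exact h1.eq.symm
  have hker : ⁅H, zpowers x⁆ ≤ Jb := by
    have hHf : H.map f ≤ zpowers (f h) := by
      conv_lhs => rw [← hgen]
      rw [Subgroup.map_sup, sup_le_iff, MonoidHom.map_closure, closure_le]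
      refine ⟨?_, ?_⟩
      · rintro _ ⟨_, ⟨i, rfl⟩, rfl⟩
        show f (x ^ i * h * (x ^ i)⁻¹) ∈ zpowers (f h)
        rw [map_mul, map_mul, map_inv, hcom, mul_inv_cancel_right]
        exact mem_zpowers _
      · refine le_trans (le_of_eq ?_) bot_le
        rw [Subgroup.map_eq_bot_iff, hf, QuotientGroup.ker_mk']
        exact le_sup_right
    refine commutator_le.2 fun g hg a ha => ?_
    obtain ⟨n, hn⟩ := mem_zpowers_iff.1 (hHf (mem_map_of_mem f hg))
    obtain ⟨i, rfl⟩ := (isOfFinOrder_of_finite x).mem_powers_iff_mem_zpowers.2 ha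
    have h1 : f ⁅g, x ^ i⁆ = 1 := by
      rw [map_commutatorElement, commutatorElement_eq_one_iff_commute, ← hn]
      exact Commute.zpow_left (hcom i).symm n
    rwa [hf, QuotientGroup.mk'_apply, QuotientGroup.eq_one_iff] at h1
  rw [hy.full] at hker
  have htop : J.subgroupOf H = ⊤ := by
    refine frattini_nongenerating (eq_top_iff.2 fun g _ => ?_)
    have h3 : (g : G) ∈ (J.subgroupOf H ⊔ frattini H).map H.subtype := by
      rw [Subgroup.map_sup, subgroupOf_map_subtype, inf_eq_left.2 hJH]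
      exact hker g.2
    obtain ⟨y, hy', e⟩ := h3
    rwa [← H.subtype_injective e]
  exact le_antisymm hJH (subgroupOf_eq_top.1 htop)

theorem main_step (hy : Hyp p H x) : H ⊓ centralizer (zpowers x : Set G) ≤ fx H x := by
  by_contra hcon
  haveI := hy.normal
  haveI := hy.sol
  haveI := hy.solvable
  set C := centralizer (zpowers x : Set G) with hC
  set D := fx H x with hD
  have hmain : ∀ W : Subgroup G, W.Normal → W ≠ ⊥ → W ≤ H → ∃ w ∈ W ⊓ C, w ∉ D := by
    intro W hW hW0 hWH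
    by_contra hne
    push Not at hne
    refine hcon fun c hc => ?_
    obtain ⟨d, hd, w, hw, rfl⟩ := hy.quo W hW hW0 hWH c hc
    exact mul_mem hd (hne w hw)
  have hminC : ∀ W : Subgroup G, W.Normal → W ≠ ⊥ → W ≤ H →
      (∀ K : Subgroup G, K.Normal → K ≤ W → K = ⊥ ∨ K = W) → W ≤ center G ∧ D ⊓ W = ⊥ := by
    intro W hW hW0 hWH hmin
    haveI := hW
    haveI : Group.IsSolvable W := Coprime.isSolvable_of_le hWH hy.sol
    obtain ⟨hcomm, q, hq, -, hWq⟩ := CfsgLib.Solvable.Basic.minimal_normal_solvable W hW0 hmin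
    haveI := Fact.mk hq
    obtain ⟨w, hw, hwD⟩ := hmain W hW hW0 hWH
    have hWC : W ≤ C := by
      by_contra h
      exact hwD (noncentral hy hWH hWq hW0
        (CfsgLib.Solvable.Basic.isMulCommutative_subgroup_iff.1 hcomm) hmin h hw)
    have hWZ := hy.le_center hWC
    refine ⟨hWZ, (hmin _ (normal_of_le_center (inf_le_right.trans hWZ)) inf_le_right).resolve_right
      fun e => hwD ?_⟩
    exact (mem_inf.1 (e.ge (mem_inf.1 hw).1)).1
  have hHne : H ≠ ⊥ := by
    intro e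
    refine hcon fun c hc => ?_
    rw [Subgroup.mem_bot.1 (e.le (mem_inf.1 hc).1)]
    exact one_mem _
  obtain ⟨V, q, hq, hVn, hV0, hVH, -, hVq, hVmin⟩ :=
    CfsgLib.Solvable.Basic.exists_minimal_normal_pgroup hHne
  haveI := Fact.mk hq
  haveI := hVn
  obtain ⟨hVZ, hDV⟩ := hminC V hVn hV0 hVH hVmin
  have hVc : ∀ v ∈ V, ∀ g : G, g * v = v * g := fun v hv g => Subgroup.mem_center_iff.1 (hVZ hv) g
  have hVC : V ≤ C := fun v hv => mem_cent.2 (hVc v hv x)
  have hDV' : ∀ v ∈ V, v ∈ D → v = 1 := fun v hv hd =>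
    Subgroup.mem_bot.1 (hDV.le (mem_inf.2 ⟨hd, hv⟩))
  have hVnD : ¬ V ≤ D := fun h => hV0 (eq_bot_iff.2 fun v hv => by
    rw [hDV' v hv (h hv)]; exact one_mem _)
  -- uniqueness of `V`
  have huniq : ∀ R : Subgroup G, R.Normal → R ≤ H → R ≠ ⊥ → V ≤ R := by
    intro R hRn hRH hR0
    haveI := hRn
    obtain ⟨W, hWn, hW0, hWR, hWmin⟩ := CfsgLib.Solvable.Basic.exists_minimal_normal_le hR0
    haveI := hWn
    obtain ⟨hWZ, -⟩ := hminC W hWn hW0 (hWR.trans hRH) hWmin
    by_contra hVR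
    obtain ⟨v, hv, hv1⟩ := (Subgroup.ne_bot_iff_exists_ne_one.1 hV0 |> fun ⟨⟨v, hv⟩, h⟩ =>
      (⟨v, hv, fun e => h (Subtype.ext e)⟩ : ∃ v ∈ V, v ≠ 1))
    obtain ⟨d, hd, w, hw, e⟩ := hy.quo W hWn hW0 (hWR.trans hRH) v (mem_inf.2 ⟨hVH hv, hVC hv⟩)
    have hdZ : d ∈ center G := by
      have : d = v * w⁻¹ := by rw [← e, mul_inv_cancel_right]
      rw [this]; exact mul_mem (hVZ hv) (inv_mem (hWZ (mem_inf.1 hw).1))
    have hd1 : d ≠ 1 := by
      intro hd1
      rw [hd1, one_mul] at e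
      subst e
      rcases hVmin (V ⊓ W) inferInstance inf_le_left with h | h
      · exact hv1 (Subgroup.mem_bot.1 (h.le (mem_inf.2 ⟨hv, (mem_inf.1 hw).1⟩)))
      · exact hVR ((inf_eq_left.1 h).trans hWR)
    have hzn : (zpowers d).Normal := normal_of_le_center (zpowers_le.2 hdZ)
    haveI := hzn
    obtain ⟨U, hUn, hU0, hUd, hUmin⟩ :=
      CfsgLib.Solvable.Basic.exists_minimal_normal_le (zpowers_ne_bot.2 hd1)
    have hdH : zpowers d ≤ H := zpowers_le.2 (mem_inf.1 (hy.fx_le hd)).1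
    obtain ⟨-, hDU⟩ := hminC U hUn hU0 (hUd.trans hdH) hUmin
    exact hU0 (by rw [← hDU, inf_eq_right.2 (hUd.trans (zpowers_le.2 hd))])
  -- abelian normal subgroups equal to their commutator with `x` are trivial
  have hfix : ∀ R : Subgroup G, R.Normal → R ≤ H → (∀ a ∈ R, ∀ b ∈ R, a * b = b * a) →
      ⁅R, zpowers x⁆ = R → R = ⊥ := by
    intro R hRn hRH hc hR
    by_contra h0
    have h1 := hy.inf_cent_eq_bot hRH hc (by rw [normalizer_eq_top]; exact mem_top x)
    refine hV0 (le_bot_iff.1 (le_trans ?_ h1.le))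
    exact le_inf (le_inf (huniq R hRn hRH h0) hVC) (by rw [hR]; exact huniq R hRn hRH h0)
  -- the Fitting subgroup
  set Q := (Cfsg.pCore q H).map H.subtype with hQ
  have hQn : Q.Normal := inferInstance
  have hQH : Q ≤ H := map_subtype_le _
  have hQp : IsPGroup q Q := (Solvable.Cores.isPGroup_pCore q).map _
  have hle_Q : ∀ R : Subgroup G, R.Normal → R ≤ H → IsPGroup q R → R ≤ Q := by
    intro R hRn hRH hR r hr
    haveI : (R.subgroupOf H).Normal := hRn.subgroupOf H
    exact ⟨⟨r, hRH hr⟩, Solvable.Cores.le_pCore (hR.comap_subtype (K := H)) hr, rfl⟩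
  have hVQ : V ≤ Q := hle_Q V hVn hVH hVq
  have hFQ : (Cfsg.fittingSubgroup H).map H.subtype ≤ Q := by
    rw [Solvable.Cores.fittingSubgroup_eq_iSup_pCore, Subgroup.map_iSup]
    refine iSup_le fun r => ?_
    by_cases hr : (r : ℕ) = q
    · rw [hr]
    haveI := Fact.mk r.2
    have hRp : IsPGroup (r : ℕ) ((Cfsg.pCore (r : ℕ) H).map H.subtype) :=
      (Solvable.Cores.isPGroup_pCore _).map _
    by_cases h0 : (Cfsg.pCore (r : ℕ) H).map H.subtype = ⊥
    · rw [h0]; exact bot_le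
    · have hd := IsPGroup.disjoint_of_ne (r : ℕ) q hr _ _ hRp hVq
      exact absurd (le_bot_iff.1 ((disjoint_iff_inf_le.1 hd).trans' (le_inf
        (huniq _ inferInstance (map_subtype_le _) h0) le_rfl))) hV0
  have hCQ : ∀ g ∈ H, (∀ a ∈ Q, a * g = g * a) → g ∈ Q := by
    intro g hg hgQ
    have h := Solvable.Cores.centralizer_fittingSubgroup_le (G := H)
      (show (⟨g, hg⟩ : H) ∈ centralizer (Cfsg.fittingSubgroup H : Set H) from
        mem_centralizer_iff.2 fun a ha => Subtype.ext (hgQ a (hFQ ⟨a, ha, rfl⟩)))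
    exact hFQ ⟨_, h, rfl⟩
  have hQC : ¬ Q ≤ C := by
    intro h
    have hQZ := hy.le_center h
    have hHQ : H ≤ Q := fun g hg => hCQ g hg fun a ha => (Subgroup.mem_center_iff.1 (hQZ ha) g).symm
    have h1 : ⁅H, zpowers x⁆ = ⊥ := commutator_eq_bot_iff_le_centralizer.2 (hHQ.trans h)
    rw [hy.full] at h1
    exact hHne h1
  by_cases hQH' : Q = H
  swap
  · -- `Q < H`
    set R := ⁅Q, zpowers x⁆ with hR
    have hxQ : zpowers x ≤ normalizer (Q : Set G) := by rw [normalizer_eq_top]; exact le_top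
    have hRQ : R ≤ Q := le_normalizer_iff_commutator_le_left.1 hxQ
    have hdecQ := Coprime.commutator_sup_centralizer hxQ (hy.coprime hQH)
      (.inl (Coprime.isSolvable_zpowers x))
    have hRD : R ⊓ C ≤ D := fun c hc => hy.sub Q hQH hQH' (hxQ (mem_zpowers x))
      (mem_inf.2 ⟨mem_inf.2 ⟨hRQ (mem_inf.1 hc).1, (mem_inf.1 hc).2⟩, (mem_inf.1 hc).1⟩)
    set Y := R ⊔ (D ⊓ Q) with hY
    have hYQ : Y ≤ Q := sup_le hRQ inf_le_right
    have hYV : Y ⊓ V = ⊥ := by
      refine eq_bot_iff.2 fun v hv => ?_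
      obtain ⟨r, hr, d, hd, rfl⟩ := (Coprime.mem_sup_of_le_normalizer (N := R) (H := D ⊓ Q)
        (inf_le_right.trans (normalizer_commutator_ge_left Q _))).1 (mem_inf.1 hv).1
      have hrC : r ∈ C := by
        have := mul_mem (hVC (mem_inf.1 hv).2) (inv_mem (mem_inf.1 (hy.fx_le (mem_inf.1 hd).1)).2)
        simpa using this
      rw [hDV' _ (mem_inf.1 hv).2 (mul_mem (hRD (mem_inf.2 ⟨hr, hrC⟩)) (mem_inf.1 hd).1)]
      exact one_mem _
    have hQYV : ∀ a ∈ Q, ∃ y ∈ Y, ∃ v ∈ V, y * v = a := by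
      intro a ha
      refine mem_sup_of_normal_right.1 ?_
      rw [← hdecQ] at ha
      refine (sup_le (le_sup_left.trans le_sup_left) ?_ : R ⊔ (Q ⊓ C) ≤ Y ⊔ V) ha
      intro c hc
      obtain ⟨d, hd, v, hv, e⟩ := hy.quo V hVn hV0 hVH c
        (mem_inf.2 ⟨hQH (mem_inf.1 hc).1, (mem_inf.1 hc).2⟩)
      rw [← e]
      refine mul_mem_sup ((le_sup_right : D ⊓ Q ≤ Y) (mem_inf.2 ⟨hd, ?_⟩)) (mem_inf.1 hv).1
      have := mul_mem (mem_inf.1 hc).1 (inv_mem (hVQ (mem_inf.1 hv).1))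
      rwa [← e, mul_inv_cancel_right] at this
    have hQab : ∀ a ∈ Q, ∀ b ∈ Q, a * b = b * a := by
      have hle : ⁅Q, Q⁆ ≤ Y := by
        refine commutator_le.2 fun a ha b hb => ?_
        obtain ⟨y, hy', v, hv, rfl⟩ := hQYV a ha
        obtain ⟨y', hy'', v', hv', rfl⟩ := hQYV b hb
        have e : ⁅y * v, y' * v'⁆ = ⁅y, y'⁆ := by
          rw [mul_comm', (commutatorElement_eq_one_iff_mul_comm).2 (hVc v hv (y' * v')).symm,
            mul_one, mul_inv_cancel, one_mul, comm_mul,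
            (commutatorElement_eq_one_iff_mul_comm).2 (hVc v' hv' y), mul_one, mul_inv_cancel,
            mul_one]
        rw [e, commutatorElement_def]
        exact mul_mem (mul_mem (mul_mem hy' hy'') (inv_mem hy')) (inv_mem hy'')
      have h0 : ⁅Q, Q⁆ = ⊥ := by
        by_contra h0
        refine hV0 (le_bot_iff.1 (le_trans (le_inf ?_ le_rfl) hYV.le))
        exact (huniq _ inferInstance ((commutator_le_self Q).trans hQH) h0).trans hle
      exact fun a ha b hb => commutatorElement_eq_one_iff_mul_comm.1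
        (Subgroup.mem_bot.1 (h0 ▸ commutator_mem_commutator ha hb))
    set f := QuotientGroup.mk' Q with hf
    have hHb : H.map f ≠ ⊥ := by
      rw [Ne, Subgroup.map_eq_bot_iff, hf, QuotientGroup.ker_mk']
      exact fun h => hQH' (le_antisymm hQH h)
    obtain ⟨N, r, hr, hNn, hN0, hNH, -, hNp, -⟩ :=
      CfsgLib.Solvable.Basic.exists_minimal_normal_pgroup hHb
    haveI := Fact.mk hr
    haveI := hNn
    set K := N.comap f with hK
    have hKn : K.Normal := inferInstance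
    have hKH : K ≤ H := by
      refine (comap_mono hNH).trans ?_
      rw [comap_map_eq, hf, QuotientGroup.ker_mk']
      exact sup_le le_rfl hQH
    have hQK : Q ≤ K := by
      intro a ha
      rw [hK, mem_comap, hf, QuotientGroup.mk'_apply, (QuotientGroup.eq_one_iff a).2 ha]
      exact one_mem N
    have hKQ : ¬ K ≤ Q := by
      intro h
      apply hN0
      rw [← map_comap_eq_self_of_surjective (QuotientGroup.mk'_surjective Q) N,
        Subgroup.map_eq_bot_iff, QuotientGroup.ker_mk']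
      exact h
    by_cases hrq : r = q
    · subst hrq
      exact hKQ (hle_Q K hKn hKH (hNp.comap_of_ker_isPGroup f (by
        rw [hf, QuotientGroup.ker_mk']; exact hQp)))
    haveI : (Q.subgroupOf K).Normal := hQn.subgroupOf K
    have hidx : (Q.subgroupOf K).index = Nat.card N := by
      let φ : K →* N := f.subgroupComap N
      have hsur : Function.Surjective φ :=
        MonoidHom.subgroupComap_surjective_of_surjective f N (QuotientGroup.mk'_surjective Q)
      have hker : φ.ker = Q.subgroupOf K := by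
        ext y
        rw [MonoidHom.mem_ker, mem_subgroupOf, ← QuotientGroup.eq_one_iff]
        exact Subtype.ext_iff
      rw [← hker, Subgroup.index_ker, MonoidHom.range_eq_top.2 hsur, Subgroup.card_top]
    have hqr : (Nat.card Q).Coprime (Nat.card N) := by
      obtain ⟨m, hm⟩ := (IsPGroup.iff_card (p := q)).1 hQp
      obtain ⟨n, hn⟩ := (IsPGroup.iff_card (p := r)).1 hNp
      rw [hm, hn]
      exact Nat.Coprime.pow m n ((Nat.coprime_primes Fact.out hr).2 (Ne.symm hrq))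
    obtain ⟨S', hS'⟩ := Subgroup.exists_right_complement'_of_coprime (N := Q.subgroupOf K) (by
      rw [hidx, Nat.card_congr (subgroupOfEquivOfLe hQK).toEquiv]
      exact hqr)
    set S := S'.map K.subtype with hS
    have hScop : (Nat.card S).Coprime (Nat.card Q) := by
      rw [← Nat.card_congr (equivMapOfInjective _ _ K.subtype_injective).toEquiv,
        ← hS'.symm.index_eq_card, hidx]
      exact hqr.symm
    have hKS : ∀ k ∈ K, ∃ a ∈ Q, ∃ s ∈ S, a * s = k := by
      intro k hk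
      obtain ⟨⟨⟨a, ha⟩, ⟨b, hb⟩⟩, e⟩ := hS'.existsUnique (⟨k, hk⟩ : K) |>.exists
      exact ⟨a, ha, b, ⟨b, hb, rfl⟩, congrArg Subtype.val e⟩
    have hQK0 : ⁅Q, K⁆ = ⊥ := by
      have hSQ : S ≤ normalizer (Q : Set G) := by rw [normalizer_eq_top]; exact le_top
      have hle : ⁅Q, K⁆ ≤ ⁅Q, S⁆ := by
        refine commutator_le.2 fun a ha k hk => ?_
        obtain ⟨b, hb, s, hs, rfl⟩ := hKS k hk
        have h1 : ⁅a, s⁆ ∈ ⁅Q, S⁆ := commutator_mem_commutator ha hs
        rw [comm_mul, (commutatorElement_eq_one_iff_mul_comm).2 (hQab a ha b hb), one_mul,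
          hQab b hb _ (le_normalizer_iff_commutator_le_left.1 hSQ h1), mul_inv_cancel_right]
        exact h1
      by_contra h0
      haveI : IsMulCommutative Q := CfsgLib.Solvable.Basic.isMulCommutative_subgroup_iff.2 hQab
      refine hV0 (le_bot_iff.1 (le_trans (le_inf (le_inf hVQ ?_)
        ((huniq _ inferInstance ((commutator_le_left Q K).trans hQH) h0).trans hle))
        (Coprime.centralizer_inf_commutator_eq_bot hSQ hScop).le))
      exact fun v hv => mem_centralizer_iff.2 fun s _ => hVc v hv s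
    refine hKQ fun k hk => hCQ k (hKH hk) fun a ha => ?_
    exact commutatorElement_eq_one_iff_mul_comm.1
      (Subgroup.mem_bot.1 (hQK0 ▸ commutator_mem_commutator ha hk))
  -- `H` is a `q`-group
  have hHq : IsPGroup q H := hQH' ▸ hQp
  set Φ := (frattini H).map H.subtype with hΦ
  have hΦn : Φ.Normal := inferInstance
  have hΦH : Φ ≤ H := map_subtype_le _
  have hder : ⁅H, H⁆ ≤ Φ := commutator_le.2 fun a ha b hb =>
    ⟨⁅(⟨a, ha⟩ : H), ⟨b, hb⟩⁆, PGroup.Frattini.commutatorElement_mem_frattini hHq _ _, rfl⟩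
  have hHab : ¬ ∀ a ∈ H, ∀ b ∈ H, a * b = b * a := fun h =>
    hHne (hfix H inferInstance le_rfl h hy.full)
  have hVΦ : V ≤ Φ := by
    refine huniq Φ hΦn hΦH fun h => hHab fun a ha b hb => ?_
    exact commutatorElement_eq_one_iff_mul_comm.1
      (Subgroup.mem_bot.1 (h ▸ hder (commutator_mem_commutator ha hb)))
  by_cases hΦV : Φ ≤ V
  · -- class two
    have hB : ∀ a ∈ H, ∀ b ∈ H, ∀ g : G, g * ⁅a, b⁆ = ⁅a, b⁆ * g := fun a ha b hb g =>
      hVc _ (hΦV (hder (commutator_mem_commutator ha hb))) g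
    have hBr : ∀ a ∈ H, ∀ b ∈ H, ∀ c ∈ H, ⁅a, b * c⁆ = ⁅a, b⁆ * ⁅a, c⁆ := fun a ha b hb c hc => by
      rw [comm_mul, hB a ha c hc b, mul_inv_cancel_right]
    have hBl : ∀ a ∈ H, ∀ b ∈ H, ∀ c ∈ H, ⁅a * b, c⁆ = ⁅b, c⁆ * ⁅a, c⁆ := fun a ha b hb c hc => by
      rw [mul_comm', hB b hb c hc a, mul_inv_cancel_right]
    have hxH : ∀ a ∈ H, x * a * x⁻¹ ∈ H := fun a ha => hy.normal.conj_mem a ha x
    have hxH' : ∀ a ∈ H, x⁻¹ * a * x ∈ H := fun a ha => by
      simpa using hy.normal.conj_mem a ha x⁻¹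
    have hxV : ∀ v ∈ V, x * v * x⁻¹ = v := fun v hv => by rw [hVc v hv x, mul_inv_cancel_right]
    let T : Subgroup G :=
      { carrier := {u | ∃ g ∈ H, ⁅g⁻¹, x⁆⁻¹ * u ∈ V}
        one_mem' := ⟨1, one_mem H, by simp⟩
        mul_mem' := by
          rintro u u' ⟨g, hg, hu⟩ ⟨g', hg', hu'⟩
          refine ⟨g * g', mul_mem hg hg', ?_⟩
          set a := ⁅g⁻¹, x⁆ with ha'
          set b := ⁅g'⁻¹, x⁆ with hb'
          have ha : a ∈ H := cm_le hg hy.x_mem (cm_gen_one x g)
          have e : ⁅(g * g')⁻¹, x⁆ = ⁅g'⁻¹, a⁆ * (a * b) := by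
            rw [ha', hb']; simp only [commutatorElement_def]; group
          rw [e]
          have h1 : ⁅g'⁻¹, a⁆ ∈ V := hΦV (hder (commutator_mem_commutator (inv_mem hg') ha))
          have e2 : (⁅g'⁻¹, a⁆ * (a * b))⁻¹ * (u * u') =
              b⁻¹ * (a⁻¹ * (⁅g'⁻¹, a⁆⁻¹ * u)) * b * (b⁻¹ * u') := by group
          rw [e2, hVc _ (inv_mem h1) a⁻¹ |>.symm.symm |> fun h => show
            a⁻¹ * (⁅g'⁻¹, a⁆⁻¹ * u) = ⁅g'⁻¹, a⁆⁻¹ * (a⁻¹ * u) by rw [← mul_assoc, h, mul_assoc]]
          refine mul_mem ?_ hu'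
          simpa using hVn.conj_mem _ (mul_mem (inv_mem h1) hu) b⁻¹
        inv_mem' := by
          rintro u ⟨g, hg, hu⟩
          set a := ⁅g⁻¹, x⁆ with ha'
          have ha : a ∈ H := cm_le hg hy.x_mem (cm_gen_one x g)
          refine ⟨g⁻¹, inv_mem hg, ?_⟩
          have e : ⁅g⁻¹⁻¹, x⁆ = ⁅g, a⁻¹⁆ * a⁻¹ := by
            rw [ha']; simp only [commutatorElement_def]; group
          rw [e]
          have h1 : ⁅g, a⁻¹⁆ ∈ V := hΦV (hder (commutator_mem_commutator hg (inv_mem ha)))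
          have h2 : a * u⁻¹ ∈ V := by
            have h3 := hVn.conj_mem _ (inv_mem hu) a
            rwa [show a * (a⁻¹ * u)⁻¹ * a⁻¹ = a * u⁻¹ by group] at h3
          rw [show (⁅g, a⁻¹⁆ * a⁻¹)⁻¹ * u⁻¹ = a * ⁅g, a⁻¹⁆⁻¹ * a⁻¹ * (a * u⁻¹) by group]
          exact mul_mem (hVn.conj_mem _ (inv_mem h1) a) h2 }
    have hT : ∀ u ∈ H, ∃ g ∈ H, ⁅g⁻¹, x⁆⁻¹ * u ∈ V := by
      have hxT : ∀ u ∈ T, x * u * x⁻¹ ∈ T := by
        rintro u ⟨g, hg, hu⟩
        refine ⟨x * g * x⁻¹, hxH g hg, ?_⟩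
        have := hVn.conj_mem _ hu x
        rwa [show x * (⁅g⁻¹, x⁆⁻¹ * u) * x⁻¹ = ⁅(x * g * x⁻¹)⁻¹, x⁆⁻¹ * (x * u * x⁻¹) by
          simp only [commutatorElement_def, mul_inv_rev, inv_inv, mul_assoc, inv_mul_cancel_left,
            mul_inv_cancel_left]] at this
      have hgi : ∀ (i : ℕ), ∀ g ∈ H, ⁅g⁻¹, x ^ i⁆ ∈ T := by
        intro i
        induction i with
        | zero => intro g hg; simp
        | succ i ih =>
          intro g hg
          rw [pow_succ', comm_mul]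
          exact mul_mem ⟨g, hg, by rw [inv_mul_cancel]; exact one_mem V⟩ (hxT _ (ih g hg))
      have hle : H ≤ T := by
        conv_lhs => rw [← hy.full]
        refine commutator_le.2 fun g hg a ha => ?_
        obtain ⟨i, rfl⟩ := (isOfFinOrder_of_finite x).mem_powers_iff_mem_zpowers.2 ha
        simpa using hgi i g⁻¹ (inv_mem hg)
      exact fun u hu => hle hu
    have hself : ∀ u ∈ H, ⁅u, x * u * x⁻¹⁆ = 1 := by
      intro u hu
      obtain ⟨g, hg, hgu⟩ := hT u hu
      set a := ⁅g⁻¹, x⁆ with ha'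
      set v := a⁻¹ * u with hv'
      have hJ : a ∈ cm x g := cm_gen_one x g
      have ha : a ∈ H := cm_le hg hy.x_mem hJ
      have hu' : u = a * v := by rw [hv', mul_inv_cancel_left]
      have hxa : x * a * x⁻¹ ∈ cm x g := (mem_normalizer_iff.1 (mem_normalizer_cm x g) a).1 hJ
      have h1 : ⁅a, x * a * x⁻¹⁆ = 1 := by
        have hmem : ⁅a, x * a * x⁻¹⁆ ∈ V := hΦV (hder (commutator_mem_commutator ha (hxH a ha)))
        refine hDV' _ hmem (cm_inf_le_fx hg (mem_inf.2 ⟨?_, hVC hmem⟩))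
        rw [commutatorElement_def]
        exact mul_mem (mul_mem (mul_mem hJ hxa) (inv_mem hJ)) (inv_mem hxa)
      have hz : ∀ b : G, ⁅b, v⁆ = 1 := fun b => commutatorElement_eq_one_iff_mul_comm.2 (hVc v hgu b)
      have hz' : ∀ b : G, ⁅v, b⁆ = 1 := fun b =>
        commutatorElement_eq_one_iff_mul_comm.2 (hVc v hgu b).symm
      rw [hu', show x * (a * v) * x⁻¹ = x * a * x⁻¹ * (x * v * x⁻¹) by group, hxV v hgu,
        hBl a ha v (hVH hgu) _ (mul_mem (hxH a ha) (hVH hgu)), hz', one_mul,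
        hBr a ha _ (hxH a ha) v (hVH hgu), hz, mul_one, h1]
    have hkey : ∀ u ∈ H, ∀ w ∈ H, ⁅u, (x⁻¹ * w * x)⁻¹ * (x * w * x⁻¹)⁆ = 1 := by
      intro u hu w hw
      have h := hself (u * w) (mul_mem hu hw)
      rw [show x * (u * w) * x⁻¹ = x * u * x⁻¹ * (x * w * x⁻¹) by group,
        hBl u hu w hw _ (mul_mem (hxH u hu) (hxH w hw)), hBr w hw _ (hxH u hu) _ (hxH w hw),
        hBr u hu _ (hxH u hu) _ (hxH w hw), hself u hu, hself w hw, mul_one, one_mul] at h
      have e : ⁅w, x * u * x⁻¹⁆ = ⁅x⁻¹ * w * x, u⁆ := by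
        calc ⁅w, x * u * x⁻¹⁆ = x * ⁅x⁻¹ * w * x, u⁆ * x⁻¹ := by
              simp only [commutatorElement_def]; group
          _ = _ := hxV _ (hΦV (hder (commutator_mem_commutator (hxH' w hw) hu)))
      rw [e, mul_eq_one_iff_eq_inv', commutatorElement_inv] at h
      have hinv : ⁅u, (x⁻¹ * w * x)⁻¹⁆ = ⁅u, x⁻¹ * w * x⁆⁻¹ := by
        have := hBr u hu _ (inv_mem (hxH' w hw)) _ (hxH' w hw)
        rw [inv_mul_cancel, commutatorElement_one_right] at this
        exact eq_inv_of_mul_eq_one_left this.symm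
      rw [hBr u hu _ (inv_mem (hxH' w hw)) _ (hxH w hw), hinv, h, inv_mul_cancel]
    set Z := H ⊓ centralizer (H : Set G) with hZ
    haveI : Z.Normal := inferInstance
    have hHZ : ⁅H, zpowers x⁆ ≤ Z := by
      set f := QuotientGroup.mk' Z with hf
      have h2 : ∀ b ∈ H, Commute (f (x ^ 2)) (f b) := by
        intro b hb
        set w := x * b * x⁻¹ with hw'
        have hw : w ∈ H := hxH b hb
        have hz : (x⁻¹ * w * x)⁻¹ * (x * w * x⁻¹) ∈ Z := mem_inf.2
          ⟨mul_mem (inv_mem (hxH' w hw)) (hxH w hw), mem_centralizer_iff.2 fun u hu =>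
            commutatorElement_eq_one_iff_mul_comm.1 (hkey u hu w hw)⟩
        rw [show (x⁻¹ * w * x)⁻¹ * (x * w * x⁻¹) = b⁻¹ * (x ^ 2 * b * (x ^ 2)⁻¹) by
          rw [hw', pow_two]; group] at hz
        have h := (QuotientGroup.eq (s := Z)).2 hz
        refine mul_inv_eq_iff_eq_mul.1 ?_
        rw [← map_inv, ← map_mul, ← map_mul]
        exact h.symm
      refine commutator_le.2 fun b hb a ha => ?_
      obtain ⟨i, rfl⟩ := (isOfFinOrder_of_finite x).mem_powers_iff_mem_zpowers.2 ha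
      rw [← QuotientGroup.eq_one_iff, ← QuotientGroup.mk'_apply, map_commutatorElement,
        commutatorElement_eq_one_iff_commute, hy.eq_sq_pow, map_pow, map_pow]
      exact ((h2 b hb).symm.pow_right _).pow_right _
    rw [hy.full] at hHZ
    exact hHab fun a ha b hb => (mem_centralizer_iff.1 (mem_inf.1 (hHZ hb)).2 a ha)
  -- larger Frattini subgroup
  obtain ⟨R, hRΦ, ⟨hRn, hVR, hRne⟩, hRmin⟩ := Finite.exists_le_minimal
    (p := fun R : Subgroup G => R.Normal ∧ V ≤ R ∧ ¬ R ≤ V) (a := Φ) ⟨hΦn, hVΦ, hΦV⟩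
  haveI := hRn
  have hRH : R ≤ H := hRΦ.trans hΦH
  have hRlt : ⁅R, H⁆ < R := Coprime.commutator_lt_of_isPGroup hHq (hHq.to_le hRH)
    (by rw [normalizer_eq_top]; exact le_top) (fun h => hRne (by rw [h]; exact bot_le))
  have hRHV : ⁅R, H⁆ ≤ V := by
    by_cases h0 : ⁅R, H⁆ = ⊥
    · rw [h0]; exact bot_le
    by_contra h
    exact hRlt.ne (le_antisymm hRlt.le (hRmin
      ⟨inferInstance, huniq _ inferInstance (hRlt.le.trans hRH) h0, h⟩ hRlt.le))
  have hRC : ¬ R ≤ C := by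
    intro h
    have hRZ := hy.le_center h
    obtain ⟨r, hr, hrV⟩ := SetLike.not_le_iff_exists.1 hRne
    obtain ⟨d, hd, v, hv, e⟩ := hy.quo V hVn hV0 hVH r (mem_inf.2 ⟨hRH hr, h hr⟩)
    have hdR : d ∈ R := by
      have := mul_mem hr (inv_mem (hVR (mem_inf.1 hv).1))
      rwa [← e, mul_inv_cancel_right] at this
    have hd1 : d ≠ 1 := fun hd1 => hrV (by rw [← e, hd1, one_mul]; exact (mem_inf.1 hv).1)
    have hzn := normal_of_le_center (zpowers_le.2 (hRZ hdR))
    exact hVnD ((huniq _ hzn (zpowers_le.2 (hRH hdR)) (zpowers_ne_bot.2 hd1)).trans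
      (zpowers_le.2 hd))
  set R₀ := ⁅R, zpowers x⁆ with hR₀
  have hxR : zpowers x ≤ normalizer (R : Set G) := by rw [normalizer_eq_top]; exact le_top
  have hR₀R : R₀ ≤ R := le_normalizer_iff_commutator_le_left.1 hxR
  have hR₀c : ¬ H ≤ centralizer (R₀ : Set G) := by
    intro h
    have hc : ∀ r ∈ R₀, ∀ g ∈ H, r * g = g * r := fun r hr g hg => mem_centralizer_iff.1 (h hg) r hr
    have hn : R₀.Normal := hy.normal_of (fun g hg r hr => by
      rw [← hc r hr g hg, mul_inv_cancel_right]; exact hr)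
      fun r hr => (mem_normalizer_iff.1 (normalizer_commutator_ge_right R _ (mem_zpowers x)) r).1 hr
    refine hRC (commutator_eq_bot_iff_le_centralizer.1 (hfix R₀ hn (hR₀R.trans hRH)
      (fun a ha b hb => hc a ha b (hRH (hR₀R hb))) ?_))
    exact Coprime.commutator_commutator_self hxR (hy.coprime hRH)
      (.inl (Coprime.isSolvable_zpowers x))
  apply hR₀c
  conv_lhs => rw [← hy.full]
  suffices hJ : ∀ h ∈ H, cm x h ≤ centralizer (R₀ : Set G) by
    refine commutator_le.2 fun g hg a ha => ?_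
    obtain ⟨i, rfl⟩ := (isOfFinOrder_of_finite x).mem_powers_iff_mem_zpowers.2 ha
    simpa using hJ g⁻¹ (inv_mem hg) (cm_gen x g⁻¹ i)
  intro h hh
  set M := closure (Set.range fun i : ℕ => x ^ i * h * (x ^ i)⁻¹) with hM
  set E := M ⊔ Φ with hE
  have hMH : M ≤ H := by
    rw [hM, closure_le]
    rintro _ ⟨i, rfl⟩
    exact hy.normal.conj_mem h hh _
  have hEH : E ≤ H := sup_le hMH hΦH
  have hEne : E ≠ H := by
    intro e
    refine hVnD fun v hv => cm_inf_le_fx hh (mem_inf.2 ⟨?_, hVC hv⟩)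
    rw [cm_eq_of_gen hy hHq hh e]
    exact hVH hv
  have hxE : x ∈ normalizer (E : Set G) := by
    refine Coprime.mem_normalizer_of_conj_map_le (Coprime.conj_map_le_iff.1 ?_)
    rw [Subgroup.map_sup, Coprime.conj_map_eq_self_of_mem_normalizer (H := Φ)
      (by rw [normalizer_eq_top]; exact mem_top x)]
    refine sup_le_sup_right ?_ _
    rw [hM, MonoidHom.map_closure, closure_le]
    rintro _ ⟨_, ⟨i, rfl⟩, rfl⟩
    exact subset_closure ⟨i + 1, by
      show x ^ (i + 1) * h * (x ^ (i + 1))⁻¹ = x * (x ^ i * h * (x ^ i)⁻¹) * x⁻¹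
      rw [pow_succ']; group⟩
  have hRE : R ≤ E := hRΦ.trans le_sup_right
  have hhE : h ∈ E := (le_sup_left : M ≤ E) (subset_closure ⟨0, by simp⟩)
  intro a ha
  refine mem_centralizer_iff.2 fun r hr => ?_
  have h1 : ⁅r, a⁆ ∈ V := hRHV (commutator_mem_commutator (hR₀R hr) (cm_le hh hy.x_mem ha))
  refine commutatorElement_eq_one_iff_mul_comm.1 (hDV' _ h1 (hy.sub E hEH hEne hxE ?_))
  refine mem_inf.2 ⟨mem_inf.2 ⟨hRE (hVR h1), hVC h1⟩, ?_⟩
  have hr' : r ∈ ⁅E, zpowers x⁆ := commutator_mono hRE le_rfl hr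
  have ha' : a ∈ ⁅E, zpowers x⁆ := cm_le_commutator hhE ha
  rw [commutatorElement_def]
  exact mul_mem (mul_mem (mul_mem hr' ha') (inv_mem hr')) (inv_mem ha')

end CfsgLib.Coprime.CommutatorFixed
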