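import Cfsg.Agent.Lib.Coprime.CommutatorFixed.Central
import Mathlib.GroupTheory.SemidirectProduct

/-!
The fixed points of `[H, P]` are generated by the fixed points of the `[h, P]`.
-/

set_option autoImplicit false

namespace CfsgLib.Coprime.CommutatorFixed

open Subgroup
open scoped commutatorElement

universe u

theorem main {p : ℕ} (hp : p.Prime) (hodd : Odd p) : ∀ (n : ℕ) (G : Type u) [Group G] [Finite G]
    (H : Subgroup G) (x : G), Nat.card H = n → x ∈ normalizer (H : Set G) → x ^ p = 1 →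
    (Nat.card H).Coprime p → Group.IsSolvable H →
    H ⊓ centralizer (zpowers x : Set G) ⊓ ⁅H, zpowers x⁆ ≤ fx H x := by
  intro n
  induction n using Nat.strong_induction_on with
  | _ n ih =>
  intro G _ _ H₀ x₀ hn hxH hxp hcop hsol
  -- pass to the group generated by `H₀` and `x₀`
  set L := H₀ ⊔ zpowers x₀ with hL
  set H := H₀.subgroupOf L with hH
  set x : L := ⟨x₀, (le_sup_right : zpowers x₀ ≤ L) (mem_zpowers x₀)⟩ with hx
  have hHmap : H.map L.subtype = H₀ := by
    rw [hH, subgroupOf_map_subtype, inf_eq_left.2 le_sup_left]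
  have hcard : Nat.card H = n :=
    (Nat.card_congr (subgroupOfEquivOfLe (le_sup_left : H₀ ≤ L)).toEquiv).trans hn
  haveI : H.Normal := normal_subgroupOf_of_le_normalizer
    (sup_le le_normalizer (zpowers_le.2 hxH))
  have hPmap : (zpowers x).map L.subtype = zpowers x₀ := MonoidHom.map_zpowers _ _
  have htop : H ⊔ zpowers x = ⊤ := by
    refine Subgroup.map_injective L.subtype_injective ?_
    rw [Subgroup.map_sup, hHmap, hPmap, ← MonoidHom.range_eq_map, range_subtype]
  have hxp' : x ^ p = 1 := Subtype.ext hxp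
  have hcop' : (Nat.card H).Coprime p := by rw [hcard, ← hn]; exact hcop
  have hsol' : Group.IsSolvable H := by
    haveI := hsol
    exact Group.isSolvable_of_isSolvable_injective
      (f := (subgroupOfEquivOfLe (le_sup_left : H₀ ≤ L)).toMonoidHom) (MulEquiv.injective _)
  suffices key : H ⊓ centralizer (zpowers x : Set L) ⊓ ⁅H, zpowers x⁆ ≤ fx H x by
    intro c hc
    obtain ⟨⟨hcH, hcC⟩, hcc⟩ := hc
    rw [← hHmap, ← hPmap, ← map_commutator] at hcc
    obtain ⟨d, hd, rfl⟩ := hcc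
    have h := map_fx_le L.subtype H x (mem_map_of_mem _ (key (mem_inf.2 ⟨mem_inf.2
      ⟨mem_subgroupOf.2 hcH, mem_cent.2 (Subtype.ext (mem_cent.1 hcC).eq)⟩, hd⟩)))
    rwa [hHmap] at h
  have hxn : zpowers x ≤ normalizer (H : Set L) := by rw [normalizer_eq_top]; exact le_top
  have hPcop : (Nat.card (zpowers x)).Coprime (Nat.card H) := by
    refine Nat.Coprime.coprime_dvd_left ?_ hcop'.symm
    rw [Nat.card_zpowers]; exact orderOf_dvd_of_pow_eq_one hxp'
  have hsub : ∀ M ≤ H, M ≠ H → x ∈ normalizer (M : Set L) →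
      M ⊓ centralizer (zpowers x : Set L) ⊓ ⁅M, zpowers x⁆ ≤ fx H x := by
    intro M hM hMH hxM
    have hlt : Nat.card M < n := hcard ▸ lt_of_le_of_ne (card_le_of_le hM)
      (fun h => hMH (eq_of_le_of_card_ge hM h.ge))
    exact (ih _ hlt L M x rfl hxM hxp' (hcop'.coprime_dvd_left (card_dvd_of_le hM))
      (Coprime.isSolvable_of_le hM hsol')).trans (fx_mono hM x)
  by_cases hfull : ⁅H, zpowers x⁆ = H
  swap
  · intro c hc
    have hle : ⁅H, zpowers x⁆ ≤ H := le_normalizer_iff_commutator_le_left.1 hxn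
    refine hsub _ hle hfull (normalizer_commutator_ge_right H _ (mem_zpowers x)) ?_
    rw [Coprime.commutator_commutator_self hxn hPcop (.inl (Coprime.isSolvable_zpowers x))]
    exact mem_inf.2 ⟨mem_inf.2 ⟨(mem_inf.1 hc).2, (mem_inf.1 (mem_inf.1 hc).1).2⟩,
      (mem_inf.1 hc).2⟩
  rw [hfull, inf_eq_left.2 inf_le_left]
  refine main_step (p := p) ⟨inferInstance, htop, hodd, hp, hxp', hcop', hsol', hfull, hsub, ?_⟩
  -- the quotients
  intro W hWn hW0 hWH c hc
  haveI := hWn
  set f := QuotientGroup.mk' W with hf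
  have hlt : Nat.card (H.map f) < n := by
    haveI : (W.subgroupOf H).Normal := hWn.subgroupOf H
    have h1 := Coprime.card_mul_relIndex' hWH
    have h2 : Nat.card (H.map f) = W.relIndex H := by
      rw [← Subgroup.relIndex_bot_left, ← Subgroup.map_bot f, Subgroup.relIndex_map_map,
        hf, QuotientGroup.ker_mk', bot_sup_eq, sup_eq_left.2 hWH]
    rw [hcard] at h1
    have h3 : 1 < Nat.card W := (one_lt_card_iff_ne_bot W).2 hW0
    have h4 : 0 < Nat.card (H.map f) := Nat.card_pos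
    rw [h2] at h4 ⊢
    nlinarith
  have hW2 : (Nat.card (zpowers x)).Coprime (Nat.card W) :=
    hPcop.coprime_dvd_right (card_dvd_of_le hWH)
  have hq := ih _ hlt (L ⧸ W) (H.map f) (f x) rfl
    (by
      haveI : (H.map f).Normal := Normal.map inferInstance f (QuotientGroup.mk'_surjective W)
      rw [normalizer_eq_top]; exact mem_top _)
    (by rw [← map_pow, hxp', map_one])
    (hcop'.coprime_dvd_left (card_map_dvd H f))
    (Group.isSolvable_of_surjective (MonoidHom.subgroupMap_surjective f H))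
  have hle : fx (H.map f) (f x) ≤ (fx H x).map f := by
    rw [fx]
    refine iSup₂_le ?_
    rintro _ ⟨h, hh, rfl⟩ y hy
    obtain ⟨hyJ, hyC⟩ := mem_inf.1 hy
    have hmap : cm (f x) (f h) = (cm x h).map f := by
      rw [cm, cm, MonoidHom.map_closure, ← Set.range_comp]
      refine congrArg Subgroup.closure (congrArg Set.range (funext fun i => ?_))
      show ⁅(f h)⁻¹, f x ^ i⁆ = f ⁅h⁻¹, x ^ i⁆
      rw [map_commutatorElement, map_inv, map_pow]
    rw [hmap] at hyJ
    obtain ⟨k, hk, rfl⟩ := hyJ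
    obtain ⟨c', hc', hkc⟩ := Coprime.exists_centralizer_inv_mul_mem (A := zpowers x) (K := cm x h)
      (N := cm x h ⊓ W)
      ((le_inf (zpowers_le.2 (mem_normalizer_cm x h)) (by rw [normalizer_eq_top]; exact le_top)).trans
        inf_normalizer_le_normalizer_inf) inf_le_left
      ((le_inf le_normalizer (by rw [normalizer_eq_top]; exact le_top)).trans
        inf_normalizer_le_normalizer_inf)
      (hW2.coprime_dvd_right (card_dvd_of_le inf_le_right))
      (.inl (Coprime.isSolvable_zpowers x)) hk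
      (fun a ha => mem_inf.2 ⟨mul_mem ((mem_normalizer_iff.1
          ((zpowers_le.2 (mem_normalizer_cm x h)) ha) k).1 hk) (inv_mem hk), by
        obtain ⟨i, rfl⟩ := (isOfFinOrder_of_finite x).mem_powers_iff_mem_zpowers.2 ha
        rw [← QuotientGroup.eq_one_iff, ← QuotientGroup.mk'_apply, map_commutatorElement,
          commutatorElement_eq_one_iff_commute, map_pow]
        exact (mem_cent.1 hyC).pow_left i⟩)
    refine ⟨c', cm_inf_le_fx hh hc', ?_⟩
    exact ((QuotientGroup.eq (s := W)).2 (mem_inf.1 hkc).2).symm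
  have hcf : f c ∈ (fx H x).map f := hle (hq (mem_inf.2 ⟨mem_inf.2
    ⟨mem_map_of_mem f (mem_inf.1 hc).1, mem_cent.2 ((mem_cent.1 (mem_inf.1 hc).2).map f)⟩, by
      rw [← MonoidHom.map_zpowers, ← map_commutator, hfull]
      exact mem_map_of_mem f (mem_inf.1 hc).1⟩))
  obtain ⟨d, hd, e⟩ := hcf
  have hdw : d⁻¹ * c ∈ W := QuotientGroup.eq.1 e
  have hdC : d ∈ centralizer (zpowers x : Set L) :=
    (iSup₂_le (fun h _ => inf_le_right) : fx H x ≤ _) hd
  exact ⟨d, hd, d⁻¹ * c, mem_inf.2 ⟨hdw, mul_mem (inv_mem hdC) (mem_inf.1 hc).2⟩, by group⟩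

/-- The statement for an automorphism. -/
theorem main_aut {H : Type u} [Group H] [Finite H] [Group.IsSolvable H] {p : ℕ} [Fact p.Prime]
    (hp : p ≠ 2) (hcop : (Nat.card H).Coprime p) (x : MulAut H) (hx : x ^ p = 1) (c : H)
    (hc : c ∈ closure {c : H | ∃ h : H, ∃ i : ℕ, c = h⁻¹ * (x ^ i) h})
    (hcx : x c = c) :
    c ∈ ⨆ h : H, closure {c : H | ∃ i : ℕ, c = h⁻¹ * (x ^ i) h} ⊓
      (x : H →* H).eqLocus (MonoidHom.id H) := by
  haveI : Finite (MulAut H) := Finite.of_injective (fun e : MulAut H => (e : H → H))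
    DFunLike.coe_injective
  let Γ := H ⋊[(zpowers x).subtype] (zpowers x)
  haveI : Finite Γ := Finite.of_equiv _ SemidirectProduct.equivProd.symm
  let y : Γ := SemidirectProduct.inr ⟨x, mem_zpowers x⟩
  let f : H →* Γ := SemidirectProduct.inl
  have hfi : Function.Injective f := SemidirectProduct.inl_injective
  have hyi : ∀ (i : ℕ) (h : H), y ^ i * f h * (y ^ i)⁻¹ = f ((x ^ i) h) := by
    intro i h
    rw [show y ^ i = SemidirectProduct.inr ((⟨x, mem_zpowers x⟩ : zpowers x) ^ i) from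
      (map_pow _ _ _).symm, ← map_inv]
    exact (SemidirectProduct.inl_aut _ h).symm
  have hgen : ∀ (h : H) (i : ℕ), f (h⁻¹ * (x ^ i) h) = ⁅(f h)⁻¹, y ^ i⁆ := by
    intro h i
    rw [map_mul, map_inv, ← hyi, commutatorElement_def, inv_inv, mul_assoc (f h)⁻¹, mul_assoc,
      mul_assoc, mul_assoc]
  have hy : y ∈ normalizer (f.range : Set Γ) := by
    refine Coprime.mem_normalizer_of_conj_map_le ?_
    rintro _ ⟨h, rfl⟩
    exact ⟨x h, by simpa using (hyi 1 h).symm⟩
  have hyp : y ^ p = 1 := by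
    show (SemidirectProduct.inr _ : Γ) ^ p = 1
    rw [← map_pow, show (⟨x, mem_zpowers x⟩ : zpowers x) ^ p = 1 from Subtype.ext hx, map_one]
  have hcard : Nat.card f.range = Nat.card H :=
    (Nat.card_congr (MonoidHom.ofInjective hfi).toEquiv).symm
  have hodd : Odd p := (Fact.out : p.Prime).odd_of_ne_two hp
  have hsol : Group.IsSolvable f.range := Group.isSolvable_of_surjective f.rangeRestrict_surjective
  have hfc : f c ∈ ⁅f.range, zpowers y⁆ := by
    have hle : (closure {c : H | ∃ h : H, ∃ i : ℕ, c = h⁻¹ * (x ^ i) h}).map f ≤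
        ⁅f.range, zpowers y⁆ := by
      rw [MonoidHom.map_closure, closure_le]
      rintro _ ⟨_, ⟨h, i, rfl⟩, rfl⟩
      rw [hgen]
      exact commutator_mem_commutator (inv_mem ⟨h, rfl⟩) (pow_mem (mem_zpowers y) i)
    exact hle (mem_map_of_mem f hc)
  have hfC : f c ∈ centralizer (zpowers y : Set Γ) := by
    refine mem_cent.2 ?_
    have := hyi 1 c
    rw [pow_one, pow_one, hcx] at this
    exact mul_inv_eq_iff_eq_mul.1 this
  have h := main Fact.out hodd _ Γ f.range y rfl hy hyp (by rw [hcard]; exact hcop) hsol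
    (mem_inf.2 ⟨mem_inf.2 ⟨⟨c, rfl⟩, hfC⟩, hfc⟩)
  suffices hle : fx f.range y ≤ (⨆ h : H, closure {c : H | ∃ i : ℕ, c = h⁻¹ * (x ^ i) h} ⊓
      (x : H →* H).eqLocus (MonoidHom.id H)).map f by
    obtain ⟨d, hd, e⟩ := hle h
    rwa [← hfi e]
  rw [fx]
  refine iSup₂_le ?_
  rintro _ ⟨h, rfl⟩
  rw [Subgroup.map_iSup]
  refine le_trans ?_ (le_iSup _ h)
  rintro z ⟨hz, hzC⟩
  have hcm : cm y (f h) = (closure {c : H | ∃ i : ℕ, c = h⁻¹ * (x ^ i) h}).map f := by
    rw [cm, MonoidHom.map_closure]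
    congr 1
    ext z
    constructor
    · rintro ⟨i, rfl⟩
      exact ⟨_, ⟨i, rfl⟩, hgen h i⟩
    · rintro ⟨_, ⟨i, rfl⟩, rfl⟩
      exact ⟨i, (hgen h i).symm⟩
  rw [hcm] at hz
  obtain ⟨k, hk, rfl⟩ := hz
  refine ⟨k, ⟨hk, ?_⟩, rfl⟩
  have hcom : Commute y (f k) := mem_cent.1 hzC
  have h1 := hyi 1 k
  rw [pow_one, pow_one, hcom.eq, mul_inv_cancel_right] at h1
  exact (hfi h1).symm

end CfsgLib.Coprime.CommutatorFixed
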