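import Cfsg.Agent.Lib.Coprime.CommutatorFixed.Basic

/-!
The fixed points on a non-central minimal normal subgroup lie in the subgroup generated by the
fixed points of the `[h, P]`.
-/

set_option autoImplicit false

namespace CfsgLib.Coprime.CommutatorFixed

open Subgroup
open scoped commutatorElement

universe u

variable {G : Type u} [Group G] [Finite G] {p : ℕ} {H : Subgroup G} {x : G}

/-- The image of `v ↦ [x², v]`. -/
theorem exists_image {V : Subgroup G} [V.Normal] (hc : ∀ a ∈ V, ∀ b ∈ V, a * b = b * a) (a : G) :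
    ∃ K : Subgroup G, ∀ k, k ∈ K ↔ ∃ v ∈ V, ⁅a, v⁆ = k := by
  refine ⟨{ carrier := {k | ∃ v ∈ V, ⁅a, v⁆ = k}
            one_mem' := ⟨1, one_mem V, by simp⟩
            mul_mem' := ?_
            inv_mem' := ?_ }, fun k => Iff.rfl⟩
  · rintro _ _ ⟨v, hv, rfl⟩ ⟨w, hw, rfl⟩
    have hm : ⁅a, w⁆ ∈ V := mul_mem (Normal.conj_mem inferInstance w hw a) (inv_mem hw)
    exact ⟨v * w, mul_mem hv hw, by rw [comm_mul, hc v hv _ hm, mul_inv_cancel_right]⟩
  · rintro _ ⟨v, hv, rfl⟩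
    refine ⟨v⁻¹, inv_mem hv, eq_inv_of_mul_eq_one_left ?_⟩
    have hm : ⁅a, v⁆ ∈ V := mul_mem (Normal.conj_mem inferInstance v hv a) (inv_mem hv)
    have h := comm_mul a v⁻¹ v
    rw [inv_mul_cancel, commutatorElement_one_right, hc _ (inv_mem hv) _ hm,
      mul_inv_cancel_right] at h
    exact h.symm

theorem comm_pow_mem {V K : Subgroup G} {a : G} (ha : a ∈ normalizer (K : Set G))
    (h : ∀ v ∈ V, ⁅a, v⁆ ∈ K) (i : ℕ) : ∀ v ∈ V, ⁅a ^ i, v⁆ ∈ K := by
  induction i with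
  | zero => simp
  | succ i ih =>
    intro v hv
    rw [pow_succ', mul_comm']
    exact mul_mem ((mem_normalizer_iff.1 ha _).1 (ih v hv)) (h v hv)

theorem noncentral (hy : Hyp p H x) {V : Subgroup G} [hVn : V.Normal] (hVH : V ≤ H) {q : ℕ}
    [Fact q.Prime] (hVq : IsPGroup q V) (hV0 : V ≠ ⊥) (hc : ∀ a ∈ V, ∀ b ∈ V, a * b = b * a)
    (hmin : ∀ K : Subgroup G, K.Normal → K ≤ V → K = ⊥ ∨ K = V)
    (hVC : ¬ V ≤ centralizer (zpowers x : Set G)) :
    V ⊓ centralizer (zpowers x : Set G) ≤ fx H x := by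
  by_contra hcon
  haveI := hy.normal
  haveI := hy.sol
  haveI := hy.solvable
  set C := centralizer (zpowers x : Set G) with hC
  set D := fx H x with hD
  have hxV : zpowers x ≤ normalizer (V : Set G) := by rw [normalizer_eq_top]; exact le_top
  have hVx : ∀ v ∈ V, x * v * x⁻¹ ∈ V := fun v hv => hVn.conj_mem v hv x
  obtain ⟨K, hK⟩ := exists_image hc (x ^ 2)
  have hKmem : ∀ v ∈ V, ⁅x ^ 2, v⁆ ∈ K := fun v hv => (hK _).2 ⟨v, hv, rfl⟩
  have hKV : K ≤ V := fun k hk => by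
    obtain ⟨v, hv, rfl⟩ := (hK k).1 hk
    exact mul_mem (hVn.conj_mem v hv _) (inv_mem hv)
  have hcK : ∀ c : G, Commute x c → ∀ k ∈ K, c * k * c⁻¹ ∈ K := by
    intro c hcx k hk
    obtain ⟨v, hv, rfl⟩ := (hK k).1 hk
    refine (hK _).2 ⟨c * v * c⁻¹, hVn.conj_mem v hv c, ?_⟩
    have e : c * x ^ 2 * c⁻¹ = x ^ 2 := by rw [← (hcx.pow_left 2).eq, mul_inv_cancel_right]
    conv_lhs => rw [← e]
    simp only [commutatorElement_def]; group
  have hxKn : x ∈ normalizer (K : Set G) :=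
    Coprime.mem_normalizer_of_conj_map_le (hcK x (Commute.refl x))
  have hx1K : ∀ v ∈ V, ⁅x, v⁆ ∈ K := fun v hv => by
    rw [hy.eq_sq_pow]
    exact comm_pow_mem (pow_mem hxKn 2) hKmem _ v hv
  have hKcomm : K ≤ ⁅V, zpowers x⁆ := fun k hk => by
    obtain ⟨v, hv, rfl⟩ := (hK k).1 hk
    rw [Coprime.commutatorElement_mem_iff]
    exact commutator_mem_commutator hv (pow_mem (mem_zpowers x) 2)
  have hKC : ∀ k ∈ K, k ∈ C → k = 1 := fun k hk hkC =>
    Subgroup.mem_bot.1 ((hy.inf_cent_eq_bot hVH hc (hxV (mem_zpowers x))).le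
      (mem_inf.2 ⟨mem_inf.2 ⟨hKV hk, hkC⟩, hKcomm hk⟩))
  -- decomposition of invariant subgroups of `V`
  have hdec : ∀ R ≤ V, x ∈ normalizer (R : Set G) →
      ∀ r ∈ R, ∃ c ∈ R ⊓ C, ∃ k ∈ K, c * k = r := by
    intro R hR hxR r hr
    have hle : ⁅R, zpowers x⁆ ≤ K := commutator_le.2 fun v hv a ha => by
      have hfin : IsOfFinOrder x := isOfFinOrder_of_finite x
      obtain ⟨i, rfl⟩ := hfin.mem_powers_iff_mem_zpowers.2 ha
      rw [Coprime.commutatorElement_mem_iff]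
      exact comm_pow_mem hxKn hx1K i v (hR hv)
    have h := Coprime.commutator_sup_centralizer (zpowers_le.2 hxR) (hy.coprime (hR.trans hVH))
      (.inl (Coprime.isSolvable_zpowers x))
    have h1 : r ∈ K ⊔ (R ⊓ C) := sup_le_sup_right hle _ (h.ge hr)
    obtain ⟨k, hk, c, hc', e⟩ := (Coprime.mem_sup_of_le_normalizer (fun c hc' =>
      Coprime.mem_normalizer_of_conj_map_le (hcK c (mem_cent.1 (mem_inf.1 hc').2)))).1 h1
    exact ⟨c, hc', k, hk, by rw [hc c (hR (mem_inf.1 hc').1) k (hKV hk), e]⟩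
  -- the proper subgroup `W`
  set W := (D ⊓ V) ⊔ K with hW
  have hWV : W ≤ V := sup_le inf_le_right hKV
  have hVnW : V ≤ normalizer (W : Set G) := fun v hv =>
    Coprime.mem_normalizer_of_conj_map_le fun w hw => by
      rw [hc v hv w (hWV hw), mul_inv_cancel_right]; exact hw
  have hKn' : (D ⊓ V : Subgroup G) ≤ normalizer (K : Set G) := fun d hd =>
    Coprime.mem_normalizer_of_conj_map_le fun k hk => by
      rw [hc d (mem_inf.1 hd).2 k (hKV hk), mul_inv_cancel_right]; exact hk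
  have hWelt : ∀ w ∈ W, ∃ d ∈ D ⊓ V, ∃ k ∈ K, d * k = w := by
    intro w hw
    obtain ⟨k, hk, d, hd, e⟩ := (Coprime.mem_sup_of_le_normalizer hKn').1
      (show w ∈ K ⊔ (D ⊓ V) by rw [sup_comm]; exact hw)
    exact ⟨d, hd, k, hk, by rw [hc d (mem_inf.1 hd).2 k (hKV hk), e]⟩
  have hWne : W ≠ V := by
    intro e
    refine hcon fun c hc' => ?_
    obtain ⟨d, hd, k, hk, rfl⟩ := hWelt c (by rw [e]; exact (mem_inf.1 hc').1)
    have hk1 : k = 1 := hKC k hk (by
      have := mul_mem (inv_mem (mem_inf.1 (hy.fx_le (mem_inf.1 hd).1)).2) (mem_inf.1 hc').2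
      simpa using this)
    rw [hk1, mul_one]; exact (mem_inf.1 hd).1
  have hWx : ∀ w ∈ W, x * w * x⁻¹ ∈ W := by
    intro w hw
    obtain ⟨d, hd, k, hk, rfl⟩ := hWelt w hw
    have hdC : Commute x d := mem_cent.1 (mem_inf.1 (hy.fx_le (mem_inf.1 hd).1)).2
    rw [show x * (d * k) * x⁻¹ = x * d * x⁻¹ * (x * k * x⁻¹) by group, hdC.eq, mul_inv_cancel_right]
    exact mul_mem_sup hd ((mem_normalizer_iff.1 hxKn k).1 hk)
  -- the stabiliser of `V / W`
  let S : Subgroup G :=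
    { carrier := {g | g ∈ H ∧ ∀ v ∈ V, ⁅g, v⁆ ∈ W}
      one_mem' := ⟨one_mem H, fun v _ => by simp⟩
      mul_mem' := fun {a b} ha hb => ⟨mul_mem ha.1 hb.1, fun v hv => by
        rw [mul_comm']
        refine mul_mem ?_ (ha.2 v hv)
        rw [show a * ⁅b, v⁆ * a⁻¹ = ⁅a, ⁅b, v⁆⁆ * ⁅b, v⁆ by simp only [commutatorElement_def]; group]
        exact mul_mem (ha.2 _ (hWV (hb.2 v hv))) (hb.2 v hv)⟩
      inv_mem' := by
        rintro g ⟨hg, hg'⟩
        refine ⟨inv_mem hg, fun v hv => ?_⟩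
        have e : ⁅g⁻¹, v⁆ = ⁅g, g⁻¹ * v * g⁻¹⁻¹⁆⁻¹ := by simp only [commutatorElement_def]; group
        rw [e]; exact inv_mem (hg' _ (hVn.conj_mem v hv _)) }
  have hSH : S ≤ H := fun g hg => hg.1
  have hVS : V ≤ S := fun u hu => ⟨hVH hu, fun v hv => by
    rw [commutatorElement_eq_one_iff_mul_comm.2 (hc u hu v hv)]; exact one_mem W⟩
  have hxS : x ∈ normalizer (S : Set G) := by
    refine Coprime.mem_normalizer_of_conj_map_le fun g hg => ⟨?_, fun v hv => ?_⟩
    · exact (mem_normalizer_iff.1 hy.x_mem g).1 hg.1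
    · rw [show ⁅x * g * x⁻¹, v⁆ = x * ⁅g, x⁻¹ * v * x⁻¹⁻¹⁆ * x⁻¹ by
        simp only [commutatorElement_def]; group]
      exact hWx _ (hg.2 _ (hVn.conj_mem v hv _))
  have hCS : H ⊓ C ≤ S := by
    intro c hc'
    obtain ⟨d, hd, w, hw, rfl⟩ := hy.quo V hVn hV0 hVH c hc'
    refine mul_mem ⟨(mem_inf.1 (hy.fx_le hd)).1, fun v hv => ?_⟩ (hVS (mem_inf.1 hw).1)
    obtain ⟨c', hc'', k, hk, rfl⟩ := hdec V le_rfl (hxV (mem_zpowers x)) v hv
    have hdx : Commute x d := mem_cent.1 (mem_inf.1 (hy.fx_le hd)).2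
    have h1 : ⁅d, c'⁆ ∈ D ⊓ V := by
      refine mem_inf.2 ⟨?_, mul_mem (hVn.conj_mem c' (mem_inf.1 hc'').1 d)
        (inv_mem (mem_inf.1 hc'').1)⟩
      rw [show ⁅d, c'⁆ = d * (c' * d⁻¹ * c'⁻¹) by simp only [commutatorElement_def]; group]
      exact mul_mem hd ((mem_normalizer_iff.1 (hy.conj_fx (mem_inf.2
        ⟨hVH (mem_inf.1 hc'').1, (mem_inf.1 hc'').2⟩)) _).1 (inv_mem hd))
    have h2 : ⁅d, k⁆ ∈ K := mul_mem (hcK d hdx k hk) (inv_mem hk)
    rw [comm_mul, hc c' (mem_inf.1 hc'').1 _ (hKV h2), mul_inv_cancel_right]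
    exact mul_mem_sup h1 h2
  have hproper : ∀ M ≤ H, M ≠ H → V ≤ M → x ∈ normalizer (M : Set G) → M ≤ S := by
    intro M hM hMH hVM hxM
    have h := Coprime.commutator_sup_centralizer (zpowers_le.2 hxM) (hy.coprime hM)
      (.inl (Coprime.isSolvable_zpowers x))
    rw [← h]
    refine sup_le (fun a ha => ⟨?_, fun v hv => ?_⟩) ((inf_le_inf_right _ hM).trans hCS)
    · exact hM (le_normalizer_iff_commutator_le_left.1 (zpowers_le.2 hxM) ha)
    · set A := ⁅M, zpowers x⁆ with hA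
      have hAV : ⁅a, v⁆ ∈ A ⊓ V := by
        refine mem_inf.2 ⟨?_, mul_mem (hVn.conj_mem v hv a) (inv_mem hv)⟩
        rw [show ⁅a, v⁆ = a * (v * a⁻¹ * v⁻¹) by simp only [commutatorElement_def]; group]
        exact mul_mem ha (le_normalizer_iff.1 (normalizer_commutator_ge_left M _) v (hVM hv) _
          (inv_mem ha))
      obtain ⟨c', hc', k, hk, e⟩ := hdec (A ⊓ V) inf_le_right
        (inf_normalizer_le_normalizer_inf (mem_inf.2
          ⟨normalizer_commutator_ge_right M _ (mem_zpowers x), hxV (mem_zpowers x)⟩)) _ hAV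
      rw [← e]
      refine mul_mem_sup (mem_inf.2 ⟨hy.sub M hM hMH hxM (mem_inf.2 ⟨mem_inf.2
        ⟨hVM (mem_inf.1 (mem_inf.1 hc').1).2, (mem_inf.1 hc').2⟩,
          (mem_inf.1 (mem_inf.1 hc').1).1⟩), (mem_inf.1 (mem_inf.1 hc').1).2⟩) hk
  have hKne : K ≠ ⊥ := by
    intro e
    refine hVC fun v hv => mem_cent.2 ?_
    have := hx1K v hv
    rw [e, Subgroup.mem_bot] at this
    exact commutatorElement_eq_one_iff_commute.1 this
  have hSne : ¬ H ≤ S := by
    intro h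
    have : W.Normal := hy.normal_of (fun g hg w hw => by
      have := mul_mem ((h hg).2 w (hWV hw)) hw
      simpa [commutatorElement_def] using this) hWx
    rcases hmin W this hWV with e | e
    · exact hKne (le_bot_iff.1 (e ▸ le_sup_right))
    · exact hWne e
  have hcen : ∀ R : Subgroup G, R.Normal → R ≤ S → ∀ g ∈ R, ∀ v ∈ V, g * v = v * g := by
    intro R hR hRS g hg v hv
    haveI := hR
    have hle : ⁅R, V⁆ ≤ W := commutator_le.2 fun g hg v hv => (hRS hg).2 v hv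
    rcases hmin ⁅R, V⁆ inferInstance (commutator_le_right R V) with e | e
    · exact commutatorElement_eq_one_iff_mul_comm.1
        (Subgroup.mem_bot.1 (e ▸ commutator_mem_commutator hg hv))
    · exact absurd (le_antisymm hWV (e ▸ hle)) hWne
  -- `S` contains the derived subgroup
  have hderS : ⁅H, H⁆ ⊔ V ≤ S := by
    refine hproper _ (sup_le (commutator_le_self H) hVH) ?_ le_sup_right ?_
    · intro e
      apply hSne
      set f := QuotientGroup.mk' V with hf
      haveI : Group.IsSolvable (H.map f) :=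
        Group.isSolvable_of_surjective (MonoidHom.subgroupMap_surjective f H)
      by_cases hb : H.map f = ⊥
      · rw [Subgroup.map_eq_bot_iff, hf, QuotientGroup.ker_mk'] at hb
        exact hb.trans hVS
      · refine absurd ?_ (Group.IsSolvable.commutator_lt_of_ne_bot hb).ne
        rw [← map_commutator]
        conv_rhs => rw [← e]
        rw [Subgroup.map_sup, show V.map f = ⊥ by
          rw [Subgroup.map_eq_bot_iff, hf, QuotientGroup.ker_mk'], sup_bot_eq]
    · rw [normalizer_eq_top]; exact mem_top x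
  have hSn : S.Normal := hy.normal_of (fun h hh s hs => by
    rw [show h * s * h⁻¹ = ⁅h, s⁆ * s by simp only [commutatorElement_def]; group]
    exact mul_mem (hderS ((le_sup_left : ⁅H, H⁆ ≤ ⁅H, H⁆ ⊔ V)
      (commutator_mem_commutator hh (hSH hs)))) hs)
    (fun s hs => (mem_normalizer_iff.1 hxS s).1 hs)
  have hgen : ∀ h ∈ H, h ∉ S → V ⊔ cm x h = H := by
    intro h hh hhS
    by_contra hne
    have hxM : x ∈ normalizer ((V ⊔ cm x h : Subgroup G) : Set G) := by
      refine Coprime.mem_normalizer_of_conj_map_le (Coprime.conj_map_le_iff.1 ?_)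
      rw [Subgroup.map_sup, Coprime.conj_map_eq_self_of_mem_normalizer (hxV (mem_zpowers x)),
        Coprime.conj_map_eq_self_of_mem_normalizer (mem_normalizer_cm x h)]
    have hle : cm x h ≤ S := le_sup_right.trans
      (hproper _ (sup_le hVH (cm_le hh hy.x_mem)) hne le_sup_left hxM)
    have hkey : ∀ a ∈ zpowers x, ⁅a, h⁆ ∈ S := by
      intro a ha
      obtain ⟨i, rfl⟩ := (isOfFinOrder_of_finite x).mem_powers_iff_mem_zpowers.2 ha
      have := hSn.conj_mem _ (hle (cm_gen x h i)) h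
      rwa [show h * ⁅h⁻¹, x ^ i⁆ * h⁻¹ = ⁅x ^ i, h⁆ by
        simp only [commutatorElement_def]; group] at this
    obtain ⟨c, hc', hcS⟩ := Coprime.exists_centralizer_inv_mul_mem (zpowers_le.2 hxS) hSH
      (by rw [normalizer_eq_top]; exact le_top) (hy.coprime hSH)
      (.inl (Coprime.isSolvable_zpowers x)) hh hkey
    apply hhS
    have := mul_mem (hCS hc') (inv_mem hcS)
    simpa using this
  have hdisj : ∀ h ∈ H, h ∉ S → cm x h ⊓ V = ⊥ := by
    intro h hh hhS
    have hn : (cm x h ⊓ V).Normal := hy.normal_of (fun g hg w hw => by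
      have hg' : g ∈ V ⊔ cm x h := (hgen h hh hhS).ge hg
      obtain ⟨u, hu, j, hj, rfl⟩ := mem_sup_of_normal_left.1 hg'
      obtain ⟨hwJ, hwV⟩ := mem_inf.1 hw
      have h1 : j * w * j⁻¹ ∈ V := hVn.conj_mem w hwV j
      rw [show u * j * w * (u * j)⁻¹ = u * (j * w * j⁻¹) * u⁻¹ by group, hc u hu _ h1,
        mul_inv_cancel_right]
      exact mem_inf.2 ⟨mul_mem (mul_mem hj hwJ) (inv_mem hj), h1⟩)
      (fun w hw => mem_inf.2 ⟨(mem_normalizer_iff.1 (mem_normalizer_cm x h) w).1 (mem_inf.1 hw).1,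
        hVx w (mem_inf.1 hw).2⟩)
    refine (hmin _ hn inf_le_right).resolve_right fun e => hcon fun c hc' => ?_
    exact cm_inf_le_fx hh (mem_inf.2
      ⟨(mem_inf.1 (e.ge (mem_inf.1 hc').1)).1, (mem_inf.1 hc').2⟩)
  obtain ⟨h₀, hh₀, hh₀S⟩ := SetLike.not_le_iff_exists.1 hSne
  set J := cm x h₀ with hJ
  have hJH : J ≤ H := cm_le hh₀ hy.x_mem
  have hVJ : V ⊔ J = H := hgen h₀ hh₀ hh₀S
  have hJV : J ⊓ V = ⊥ := hdisj h₀ hh₀ hh₀S
  have hxJ : x ∈ normalizer (J : Set G) := mem_normalizer_cm x h₀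
  have hVJn : J ≤ normalizer (V : Set G) := by rw [normalizer_eq_top]; exact le_top
  have hsplit : ∀ g ∈ H, ∃ u ∈ V, ∃ j ∈ J, u * j = g := fun g hg =>
    mem_sup_of_normal_left.1 (hVJ.ge hg)
  -- `J` acts faithfully
  have hfaith : ∀ g ∈ J, (∀ v ∈ V, g * v = v * g) → g = 1 := by
    set L := J ⊓ centralizer (V : Set G) with hL
    have hLn : L.Normal := hy.normal_of (fun g hg l hl => by
      obtain ⟨u, hu, j, hj, rfl⟩ := hsplit g hg
      obtain ⟨hlJ, hlC⟩ := mem_inf.1 hl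
      have h1 : j * l * j⁻¹ ∈ centralizer (V : Set G) :=
        (inferInstance : (centralizer (V : Set G)).Normal).conj_mem l hlC j
      have h2 : u * (j * l * j⁻¹) * u⁻¹ = j * l * j⁻¹ := by
        rw [mem_centralizer_iff.1 h1 u hu, mul_inv_cancel_right]
      rw [show u * j * l * (u * j)⁻¹ = u * (j * l * j⁻¹) * u⁻¹ by group, h2]
      exact mem_inf.2 ⟨mul_mem (mul_mem hj hlJ) (inv_mem hj), h1⟩)
      (fun l hl => mem_inf.2 ⟨(mem_normalizer_iff.1 hxJ l).1 (mem_inf.1 hl).1,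
        (inferInstance : (centralizer (V : Set G)).Normal).conj_mem l (mem_inf.1 hl).2 x⟩)
    have hL0 : L = ⊥ := by
      by_contra hne
      refine hcon fun c hc' => ?_
      obtain ⟨d, hd, w, hw, rfl⟩ := hy.quo L hLn hne (inf_le_left.trans hJH) c
        (mem_inf.2 ⟨hVH (mem_inf.1 hc').1, (mem_inf.1 hc').2⟩)
      exact mul_mem hd (cm_inf_le_fx hh₀ (mem_inf.2 ⟨(mem_inf.1 (mem_inf.1 hw).1).1,
        (mem_inf.1 hw).2⟩))
    intro g hg hgV
    exact Subgroup.mem_bot.1 (hL0.le (mem_inf.2 ⟨hg, mem_centralizer_iff.2 fun v hv => (hgV v hv).symm⟩))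
  have hJS : ∀ g ∈ J, g ∈ S → g = 1 := fun g hg hgS =>
    hfaith g hg (hcen S hSn le_rfl g hgS)
  have hJab : ∀ a ∈ J, ∀ b ∈ J, a * b = b * a := fun a ha b hb =>
    commutatorElement_eq_one_iff_mul_comm.1 (hJS _
      (by rw [commutatorElement_def]
          exact mul_mem (mul_mem (mul_mem ha hb) (inv_mem ha)) (inv_mem hb))
      (hderS ((le_sup_left : ⁅H, H⁆ ≤ ⁅H, H⁆ ⊔ V) (commutator_mem_commutator (hJH ha) (hJH hb)))))
  -- coprimality
  have hcop : (Nat.card V).Coprime (Nat.card J) := by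
    obtain ⟨n, hn⟩ := (IsPGroup.iff_card (p := q)).1 hVq
    rw [hn]
    refine Nat.Coprime.pow_left n ((Fact.out : q.Prime).coprime_iff_not_dvd.2 fun hdvd => ?_)
    obtain ⟨g, hg⟩ := exists_prime_orderOf_dvd_card' (G := J) q hdvd
    let Jq : Subgroup G :=
      { carrier := {j | j ∈ J ∧ j ^ q = 1}
        one_mem' := ⟨one_mem J, one_pow q⟩
        mul_mem' := fun {a b} ha hb => ⟨mul_mem ha.1 hb.1, by
          rw [(show Commute a b from hJab a ha.1 b hb.1).mul_pow, ha.2, hb.2, one_mul]⟩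
        inv_mem' := fun {a} ha => ⟨inv_mem ha.1, by rw [inv_pow, ha.2, inv_one]⟩ }
    have hJq : IsPGroup q Jq := fun j => ⟨1, by rw [pow_one]; exact Subtype.ext j.2.2⟩
    have hlt := Coprime.commutator_lt_of_isPGroup hJq hVq
      (fun j hj => hVJn hj.1) hV0
    have hn' : (⁅V, Jq⁆ : Subgroup G).Normal := hy.normal_of (fun a ha r hr => by
      obtain ⟨u, hu, j, hj, rfl⟩ := hsplit a ha
      have h1 : j * r * j⁻¹ ∈ ⁅V, Jq⁆ := by
        have hj' : j ∈ normalizer ((⁅V, Jq⁆ : Subgroup G) : Set G) := by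
          refine Coprime.mem_normalizer_of_conj_map_le (Coprime.conj_map_le_iff.1 ?_)
          rw [map_commutator, Coprime.conj_map_eq_self_of_mem_normalizer (hVJn hj),
            Coprime.conj_map_eq_self_of_mem_normalizer
              (Coprime.mem_normalizer_of_conj_map_le fun z hz => by
                rw [hJab j hj z hz.1, mul_inv_cancel_right]; exact hz)]
        exact (mem_normalizer_iff.1 hj' r).1 hr
      rw [show u * j * r * (u * j)⁻¹ = u * (j * r * j⁻¹) * u⁻¹ by group,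
        hc u hu _ (hlt.le h1), mul_inv_cancel_right]
      exact h1) (fun r hr => by
      have hxq : x ∈ normalizer (Jq : Set G) := Coprime.mem_normalizer_of_conj_map_le fun z hz =>
        ⟨(mem_normalizer_iff.1 hxJ z).1 hz.1, by rw [conj_pow, hz.2, mul_one, mul_inv_cancel]⟩
      have hx' : x ∈ normalizer ((⁅V, Jq⁆ : Subgroup G) : Set G) := by
        refine Coprime.mem_normalizer_of_conj_map_le (Coprime.conj_map_le_iff.1 ?_)
        rw [map_commutator, Coprime.conj_map_eq_self_of_mem_normalizer (hxV (mem_zpowers x)),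
          Coprime.conj_map_eq_self_of_mem_normalizer hxq]
      exact (mem_normalizer_iff.1 hx' r).1 hr)
    have h0 := (hmin _ hn' hlt.le).resolve_right hlt.ne
    have hg1 : (g : G) = 1 := hfaith g g.2 fun v hv =>
      (commutatorElement_eq_one_iff_mul_comm.1 (Subgroup.mem_bot.1 (h0 ▸
        commutator_mem_commutator hv (show (g : G) ∈ Jq from ⟨g.2, by
          rw [← SubmonoidClass.coe_pow, ← hg, pow_orderOf_eq_one, OneMemClass.coe_one]⟩)))).symm
    rw [OneMemClass.coe_eq_one] at hg1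
    rw [hg1, orderOf_one] at hg
    exact (Fact.out : q.Prime).one_lt.ne hg
  have hJne : ∀ w ∈ V, w ∈ normalizer (J : Set G) → w = 1 := by
    intro w hw hwn
    set U := V ⊓ centralizer (J : Set G) with hU
    have hUn : U.Normal := hy.normal_of (fun a ha r hr => by
      obtain ⟨u, hu, j, hj, rfl⟩ := hsplit a ha
      rw [show u * j * r * (u * j)⁻¹ = u * (j * r * j⁻¹) * u⁻¹ by group,
        mem_centralizer_iff.1 (mem_inf.1 hr).2 j hj, mul_inv_cancel_right,
        hc u hu r (mem_inf.1 hr).1, mul_inv_cancel_right]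
      exact hr) (fun r hr => mem_inf.2 ⟨hVx r (mem_inf.1 hr).1,
        mem_centralizer_iff.2 fun j hj => by
          have hj' : x⁻¹ * j * x ∈ J := (mem_normalizer_iff''.1 hxJ j).1 hj
          calc j * (x * r * x⁻¹) = x * ((x⁻¹ * j * x) * r) * x⁻¹ := by group
            _ = x * (r * (x⁻¹ * j * x)) * x⁻¹ := by
              rw [mem_centralizer_iff.1 (mem_inf.1 hr).2 _ hj']
            _ = x * r * x⁻¹ * j := by group⟩)
    have hwU : w ∈ U := mem_inf.2 ⟨hw, mem_centralizer_iff.2 fun j hj => by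
      have h1 : ⁅w, j⁆ ∈ J ⊓ V := mem_inf.2 ⟨mul_mem ((mem_normalizer_iff.1 hwn j).1 hj) (inv_mem hj),
        by rw [Coprime.commutatorElement_mem_iff]
           exact mul_mem (hVn.conj_mem w hw j) (inv_mem hw)⟩
      rw [hJV, Subgroup.mem_bot, commutatorElement_eq_one_iff_mul_comm] at h1
      exact h1.symm⟩
    rcases hmin U hUn inf_le_left with e | e
    · exact Subgroup.mem_bot.1 (e ▸ hwU)
    · exfalso
      refine hSne fun a ha => ?_
      obtain ⟨u, hu, j, hj, rfl⟩ := hsplit a ha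
      rw [hfaith j hj fun v hv => mem_centralizer_iff.1 (mem_inf.1 (e.ge hv)).2 j hj, mul_one]
      exact hVS hu
  -- two translates of the fixed points
  have hV2 : ∀ j ∈ J, j ≠ 1 → ∀ v ∈ V, ∃ a ∈ V ⊓ C, ∃ b ∈ V ⊓ C, v = j⁻¹ * a * j * b := by
    intro j hj hj1 v hv
    have hjv : j * v ∈ H := mul_mem (hJH hj) (hVH hv)
    have hjvS : j * v ∉ S := fun h => hj1 (hJS j hj (by
      simpa using mul_mem h (inv_mem (hVS hv))))
    set J' := cm x (j * v) with hJ'
    have hVJ' : V ⊔ J' = H := hgen _ hjv hjvS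
    have hJ'V : J' ⊓ V = ⊥ := hdisj _ hjv hjvS
    have hJ'n : J' ≤ normalizer (V : Set G) := by rw [normalizer_eq_top]; exact le_top
    have hcard : Nat.card J = Nat.card J' := by
      have h1 := Coprime.card_sup_of_le_normalizer hVJn (disjoint_iff.2 (by rw [inf_comm]; exact hJV))
      have h2 := Coprime.card_sup_of_le_normalizer hJ'n (disjoint_iff.2 (by rw [inf_comm]; exact hJ'V))
      rw [hVJ] at h1
      rw [hVJ', h1] at h2
      exact Nat.eq_of_mul_eq_mul_left Nat.card_pos h2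
    obtain ⟨u, hu, hconj⟩ := Coprime.exists_conj_eq (N := V) (H := J) (K := J')
      (Or.inl (Coprime.isSolvable_of_le hVH hy.sol)) hVJn hJ'n
      (by rw [hVJ']; exact hJH) hcard hcop
    have hxu : Commute x u := by
      have h1 : J.map (MulAut.conj (x * u * x⁻¹)).toMonoidHom = J' := by
        rw [← Coprime.conj_map_map, Coprime.conj_map_eq_self_of_mem_normalizer (inv_mem hxJ),
          ← Coprime.conj_map_map, hconj,
          Coprime.conj_map_eq_self_of_mem_normalizer (mem_normalizer_cm x (j * v))]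
      have h2 : u⁻¹ * (x * u * x⁻¹) ∈ normalizer (J : Set G) := by
        refine Coprime.mem_normalizer_of_conj_map_le (Coprime.conj_map_le_iff.1 ?_)
        rw [← Coprime.conj_map_map, h1, ← hconj, Coprime.conj_map_map, inv_mul_cancel,
          Coprime.conj_map_eq_self_of_mem_normalizer (one_mem _)]
      have h3 := hJne _ (mul_mem (inv_mem hu) (hVx u hu)) h2
      rw [inv_mul_eq_one, eq_mul_inv_iff_mul_eq] at h3
      exact h3.symm
    set g := ⁅j⁻¹, x⁆ with hg
    have hgJ : g ∈ J := by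
      rw [hg, commutatorElement_def, inv_inv, show j⁻¹ * x * j * x⁻¹ = j⁻¹ * (x * j * x⁻¹) by group]
      exact mul_mem (inv_mem hj) ((mem_normalizer_iff.1 hxJ j).1 hj)
    set g' := ⁅(j * v)⁻¹, x⁆ with hg'
    have hg'J : u⁻¹ * g' * u ∈ J := by
      obtain ⟨k, hk, e⟩ := hconj.ge (cm_gen_one x (j * v))
      have : u⁻¹ * g' * u = k := by
        rw [hg', ← e]; show u⁻¹ * (u * k * u⁻¹) * u = k; group
      rwa [this]
    have e0 : g' = v⁻¹ * g * (x * v * x⁻¹) := by
      rw [hg', hg]; simp only [commutatorElement_def]; group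
    have e1 : g⁻¹ * (u⁻¹ * g' * u) = (g⁻¹ * (u⁻¹ * v⁻¹) * g) * (x * v * x⁻¹ * u) := by
      rw [e0]; group
    have hmem : g⁻¹ * (u⁻¹ * g' * u) ∈ J ⊓ V := mem_inf.2 ⟨mul_mem (inv_mem hgJ) hg'J, by
      rw [e1]
      refine mul_mem ?_ (mul_mem (hVx v hv) hu)
      simpa using hVn.conj_mem _ (mul_mem (inv_mem hu) (inv_mem hv)) g⁻¹⟩
    rw [hJV, Subgroup.mem_bot, e1] at hmem
    set v' := v * u with hv'
    have e2 : x * v' * x⁻¹ = g⁻¹ * v' * g := by
      rw [hv', show x * (v * u) * x⁻¹ = x * v * x⁻¹ * (x * u * x⁻¹) by group, hxu.eq,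
        mul_inv_cancel_right]
      rw [mul_eq_one_iff_eq_inv'] at hmem
      rw [hmem]; group
    have ha : Commute x (j * v' * j⁻¹) := by
      have e3 : x * (j * v' * j⁻¹) * x⁻¹ = (x * j * x⁻¹) * (x * v' * x⁻¹) * (x * j * x⁻¹)⁻¹ := by group
      rw [e2, hg] at e3
      have e4 : x * (j * v' * j⁻¹) * x⁻¹ = j * v' * j⁻¹ := by
        rw [e3]; simp only [commutatorElement_def]; group
      exact mul_inv_eq_iff_eq_mul.1 e4
    refine ⟨j * v' * j⁻¹, mem_inf.2 ⟨hVn.conj_mem v' (mul_mem hv hu) j, mem_cent.2 ha⟩, u⁻¹,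
      mem_inf.2 ⟨inv_mem hu, mem_cent.2 hxu.inv_right⟩, ?_⟩
    rw [hv']; group
  -- `K` is normal
  have hJK : ∀ j ∈ J, ∀ k ∈ K, j * k * j⁻¹ ∈ K := by
    intro j hj k hk
    by_cases hj1 : j = 1
    · simpa [hj1] using hk
    obtain ⟨v, hv, rfl⟩ := (hK k).1 hk
    obtain ⟨a, ha, b, hb, hw⟩ := hV2 j⁻¹ (inv_mem hj) (inv_ne_one.2 hj1) (x * v * x⁻¹) (hVx v hv)
    rw [inv_inv] at hw
    set w := x * v * x⁻¹ with hwdef
    have hax : Commute x a := mem_cent.1 (mem_inf.1 ha).2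
    have hbx : Commute x b := mem_cent.1 (mem_inf.1 hb).2
    set c := j * a * j⁻¹ with hcdef
    have hcV : c ∈ V := hVn.conj_mem a (mem_inf.1 ha).1 j
    have e1 : ⁅x ^ 2, v⁆ = x * c * x⁻¹ * (x⁻¹ * c * x)⁻¹ := by
      have hkey : ⁅x ^ 2, v⁆ = x * w * x⁻¹ * (x⁻¹ * w * x)⁻¹ := by
        rw [hwdef, commutatorElement_def, pow_two]; group
      rw [hkey, hw]
      calc x * (c * b) * x⁻¹ * (x⁻¹ * (c * b) * x)⁻¹
          = x * c * x⁻¹ * ((x * b * x⁻¹) * (x⁻¹ * b * x)⁻¹) * (x⁻¹ * c * x)⁻¹ := by group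
        _ = _ := by
          rw [hbx.eq, mul_inv_cancel_right, show x⁻¹ * b * x = b by
            rw [mul_assoc, ← hbx.eq, inv_mul_cancel_left], mul_inv_cancel, mul_one]
    set jp := x * j * x⁻¹ with hjp
    set jm := x⁻¹ * j * x with hjm
    have hjpJ : jp ∈ J := (mem_normalizer_iff.1 hxJ j).1 hj
    have hjmJ : jm ∈ J := (mem_normalizer_iff''.1 hxJ j).1 hj
    set z := j * jm * a * (j * jm)⁻¹ with hz
    have hp1 : x * c * x⁻¹ = jp * a * jp⁻¹ := by
      calc x * c * x⁻¹ = jp * (x * a * x⁻¹) * jp⁻¹ := by rw [hcdef, hjp]; group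
        _ = _ := by rw [hax.eq, mul_inv_cancel_right]
    have hm1 : x⁻¹ * c * x = jm * a * jm⁻¹ := by
      calc x⁻¹ * c * x = jm * (x⁻¹ * a * x) * jm⁻¹ := by rw [hcdef, hjm]; group
        _ = _ := by rw [mul_assoc x⁻¹ a x, ← hax.eq, inv_mul_cancel_left]
    have hz1 : x * z * x⁻¹ = j * jp * a * (j * jp)⁻¹ := by
      calc x * z * x⁻¹ = jp * j * (x * a * x⁻¹) * (jp * j)⁻¹ := by rw [hz, hjp, hjm]; group
        _ = _ := by rw [hax.eq, mul_inv_cancel_right, hJab jp hjpJ j hj]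
    have e2 : j * ⁅x ^ 2, v⁆ * j⁻¹ = ⁅x, z⁆ := by
      rw [e1, hp1, hm1, commutatorElement_def, hz1, hz]
      group
    rw [e2]
    exact hx1K z (hVn.conj_mem a (mem_inf.1 ha).1 _)
  have hKn : K.Normal := hy.normal_of (fun a ha k hk => by
    obtain ⟨u, hu, j, hj, rfl⟩ := hsplit a ha
    have h1 := hJK j hj k hk
    rw [show u * j * k * (u * j)⁻¹ = u * (j * k * j⁻¹) * u⁻¹ by group, hc u hu _ (hKV h1),
      mul_inv_cancel_right]
    exact h1) (fun k hk => (mem_normalizer_iff.1 hxKn k).1 hk)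
  rcases hmin K hKn hKV with e | e
  · exact hKne e
  · refine hcon fun c hc' => ?_
    rw [hKC c (e.ge (mem_inf.1 hc').1) (mem_inf.1 hc').2]
    exact one_mem _

end CfsgLib.Coprime.CommutatorFixed
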